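import Groth.Agent.GorMor.Etale
import Groth.Agent.FibreFlat.LocusSp
import Groth.Agent.AlgSpLib.LocPMore
import Groth.Agent.Hensel.HenselizationMore
import Groth.Agent.S0116
import Groth.Prelude.Def_AlgSpDec

/-!
# Gorenstein morphisms of algebraic spaces
-/

set_option autoImplicit false
set_option linter.style.haveILetI false
set_option backward.isDefEq.respectTransparency false

universe u

open CategoryTheory CategoryTheory.Limits AlgebraicGeometry AlgSp Opposite
open Groth.Agent.AlgSpLib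

namespace Groth.Agent.GorMor

variable {S : Scheme.{u}}

/-- one chart diagram suffices -/
theorem locPAt_gorenstein_iff_chart {X Y : Sp S} (hX : IsAlgSpace X) (hY : IsAlgSpace Y) {f : X ⟶ Y} {U V : Over S}
    {a : (yon S).obj U ⟶ X} {b : (yon S).obj V ⟶ Y} {h : U ⟶ V} (ha : RepWith @Etale a)
    (hb : RepWith @Etale b) (comm : a ≫ f = (yon S).map h ≫ b) (u : ↥U.left) :
    LocPAt (fun h u => Dual3.IsGorensteinAt h u) f (Points.ofPt a u) ↔ Dual3.IsGorensteinAt h.left u := by
  refine ⟨fun H => H a b h u ha hb comm rfl, fun e U' V' a' b' h' u' ha' hb' comm' hu' => ?_⟩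
  obtain ⟨U'', k, k', sqU⟩ := exists_pullback hX.diag a a'
  obtain ⟨V'', l, l', sqV⟩ := exists_pullback hY.diag b b'
  obtain ⟨w, hw, hw'⟩ := (ofPt_eq_iff sqU u u').1 hu'.symm
  have e1 : ((yon S).map k ≫ (yon S).map h) ≫ b = ((yon S).map k' ≫ (yon S).map h') ≫ b' := by
    rw [Category.assoc, ← comm, Category.assoc, ← comm', ← Category.assoc, ← Category.assoc, sqU.w]
  obtain ⟨h'', hh''⟩ := exists_map_eq (sqV.lift _ _ e1)
  have c1 : k ≫ h = h'' ≫ l := (yon S).map_injective (by
    rw [Functor.map_comp, Functor.map_comp, hh'', sqV.lift_fst])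
  have c2 : k' ≫ h' = h'' ≫ l' := (yon S).map_injective (by
    rw [Functor.map_comp, Functor.map_comp, hh'', sqV.lift_snd])
  have : Etale k.left := (repWith_yon_iff _).1 (repWith_baseChange sqU.flip ha')
  have : Etale k'.left := (repWith_yon_iff _).1 (repWith_baseChange sqU ha)
  have : Etale l.left := (repWith_yon_iff _).1 (repWith_baseChange sqV.flip hb')
  have : Etale l'.left := (repWith_yon_iff _).1 (repWith_baseChange sqV hb)
  have h1 : Dual3.IsGorensteinAt h''.left w :=
    (isGorensteinAt_iff_of_etale (congrArg (fun m => m.left) c1) w).1 (by rw [hw]; exact e)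
  have h2 := (isGorensteinAt_iff_of_etale (congrArg (fun m => m.left) c2) w).2 h1
  rw [hw'] at h2
  exact h2

theorem locP_lft_of_etale {U : Over S} {X : Sp S} (hX : IsAlgSpace X) (a : (yon S).obj U ⟶ X)
    (ha : RepWith @Etale a) : LocP @LocallyOfFiniteType a := fun _ _ a' b' h' ha' hb' comm => by
  have : Etale h'.left := (isEtaleMor_iff_locP hX).1 (AlgSpLib.isEtaleMor_of_repWith' ha) a' b' h' ha' hb' comm
  infer_instance

/-- A scheme that is locally Noetherian as an algebraic space is locally Noetherian. -/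
theorem isLocallyNoetherian_of_isLocNoethSp {U : Over S} (h : IsLocNoethSp ((yon S).obj U)) :
    IsLocallyNoetherian U.left := by
  obtain ⟨W, q, hqe, hqs, hW⟩ := h
  obtain ⟨q', rfl⟩ := exists_map_eq q
  have : Etale q'.left := (repWith_yon_iff _).1 hqe
  have : Surjective q'.left := (repWith_yon_iff _).1 hqs
  exact Groth.Agent.S0116.result q'.left

/-- Fibres of charts are locally Noetherian when the fibres of the morphism are. -/
theorem isLocallyNoetherian_fiber_chart {X Y : Sp S} (hX : IsAlgSpace X) (hY : IsAlgSpace Y) {f : X ⟶ Y}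
    (hf : ∀ (k : FieldPt Y) (Xk : Sp S) (a : Xk ⟶ X) (b : Xk ⟶ (yon S).obj k.pt),
      IsPullback a b f k.toHom → IsLocNoethSp Xk)
    {U V : Over S} {a : (yon S).obj U ⟶ X} {b : (yon S).obj V ⟶ Y} {h : U ⟶ V} (ha : RepWith @Etale a)
    (comm : a ≫ f = (yon S).map h ≫ b) (v : ↥V.left) : IsLocallyNoetherian (h.left.fiber v) := by
  let T : Over S := Over.mk (V.left.fromSpecResidueField v ≫ V.hom)
  let ι : T ⟶ V := Over.homMk (V.left.fromSpecResidueField v) rfl
  let Fv : Over S := Over.mk (h.left.fiberι v ≫ U.hom)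
  let π : Fv ⟶ U := Over.homMk (h.left.fiberι v) rfl
  let σ : Fv ⟶ T := Over.homMk (h.left.fiberToSpecResidueField v) (by
    show h.left.fiberToSpecResidueField v ≫ V.left.fromSpecResidueField v ≫ V.hom = h.left.fiberι v ≫ U.hom
    rw [← Category.assoc, ← Scheme.Hom.fiber_fac, Category.assoc, Over.w h])
  have sqF : IsPullback ((yon S).map π) ((yon S).map σ) ((yon S).map h) ((yon S).map ι) :=
    isPullback_yon_iff.2 (IsPullback.of_hasPullback h.left (V.left.fromSpecResidueField v))
  have sqP := IsPullback.of_hasPullback f b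
  have hP : IsAlgSpace (pullback f b) := isAlgSpace_of_isPullback_space hY hX (IsAlgSpace.yon_obj V) sqP
  have sqK := IsPullback.of_hasPullback (pullback.snd f b) ((yon S).map ι)
  have hK : IsAlgSpace (pullback (pullback.snd f b) ((yon S).map ι)) :=
    isAlgSpace_of_isPullback_space (IsAlgSpace.yon_obj V) hP (IsAlgSpace.yon_obj T) sqK
  let r : (yon S).obj U ⟶ pullback f b := pullback.lift a ((yon S).map h) comm
  have hr : LocP @LocallyOfFiniteType r := by
    refine locP_cancel etST_lft (Q := ⊤) (fun _ _ _ f g _ hfg => ?_) hX (g := pullback.fst f b) ?_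
      (fun _ _ _ _ _ _ _ _ => trivial)
    · have : LocallyOfFiniteType (f ≫ g) := hfg
      exact locallyOfFiniteType_of_comp f g
    · rw [pullback.lift_fst]
      exact locP_lft_of_etale hX a ha
  let m : (yon S).obj Fv ⟶ pullback (pullback.snd f b) ((yon S).map ι) :=
    pullback.lift ((yon S).map π ≫ r) ((yon S).map σ) (by
      rw [Category.assoc, pullback.lift_snd, sqF.w])
  have sqm : IsPullback ((yon S).map π) m r (pullback.fst (pullback.snd f b) ((yon S).map ι)) := by
    refine IsPullback.of_bot ?_ (pullback.lift_fst _ _ _).symm sqK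
    rw [pullback.lift_snd, pullback.lift_snd]
    exact sqF
  have hm : LocP @LocallyOfFiniteType m :=
    locP_baseChange etST_lft (IsAlgSpace.yon_obj U) hP (IsAlgSpace.yon_obj Fv) hK sqm hr
  have hN : IsLocNoethSp (pullback (pullback.snd f b) ((yon S).map ι)) :=
    hf (FieldPt.ofPt b v) _ _ _ (by
      rw [FieldPt.toHom_ofPt]
      exact sqK.paste_horiz sqP)
  exact isLocallyNoetherian_of_isLocNoethSp (isLocNoethSp_of_lft (IsAlgSpace.yon_obj Fv) hK m hm hN)

/-- Composition. -/
theorem locPAt_gorenstein_comp {X Y Z : Sp S} (hX : IsAlgSpace X) (hY : IsAlgSpace Y) (hZ : IsAlgSpace Z)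
    {f : X ⟶ Y} {g : Y ⟶ Z}
    (hfg : ∀ (k : FieldPt Z) (Xk : Sp S) (a : Xk ⟶ X) (b : Xk ⟶ (yon S).obj k.pt),
      IsPullback a b (f ≫ g) k.toHom → IsLocNoethSp Xk) (x : Points X) :
    (LocPAt (fun h u => Dual3.IsGorensteinAt h u) f x →
        LocPAt (fun h u => Dual3.IsGorensteinAt h u) g (Points.map f x) →
        LocPAt (fun h u => Dual3.IsGorensteinAt h u) (f ≫ g) x) ∧
      (LocPAt (fun h u => Dual3.IsGorensteinAt h u) (f ≫ g) x → IsFlatAtMor f x →
        LocPAt (fun h u => Dual3.IsGorensteinAt h u) f x ∧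
          LocPAt (fun h u => Dual3.IsGorensteinAt h u) g (Points.map f x)) := by
  obtain ⟨V, c, hce, hcs⟩ := hZ.atlas
  obtain ⟨W, b, k, hbe, hbs, hk⟩ := exists_chart_lift hY hZ g hce hcs
  obtain ⟨U, a, h, hae, has, hh⟩ := exists_chart_lift hX hY f hbe hbs
  obtain ⟨u, rfl⟩ := ofPt_surjective has x
  have comm : a ≫ f ≫ g = (yon S).map (h ≫ k) ≫ c := by
    rw [← Category.assoc, hh, Category.assoc, hk, Functor.map_comp, Category.assoc]
  have hpt : Points.map f (Points.ofPt a u) = Points.ofPt b (h.left u) := by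
    rw [Points.map_ofPt, hh, ofPt_comp]
  have iF := locPAt_gorenstein_iff_chart hX hY hae hbe hh u
  have iG := locPAt_gorenstein_iff_chart hY hZ hbe hce hk (h.left u)
  have iFG := locPAt_gorenstein_iff_chart hX hZ hae hce comm u
  rw [hpt, iF, iG, iFG]
  refine ⟨fun hF hG => ?_, fun hFG hfl => ?_⟩
  · have hN := isLocallyNoetherian_fiber_chart hX hZ hfg hae comm (k.left (h.left u))
    exact isGorensteinAt_comp hN hF hG
  · exact isGorensteinAt_of_comp hFG (hfl a b h u hae hbe hh rfl)

/-- Base change along morphisms locally of finite type. -/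
theorem locPAt_gorenstein_baseChange {X Y X' Y' : Sp S} (hX : IsAlgSpace X) (hY : IsAlgSpace Y)
    (hX' : IsAlgSpace X') (hY' : IsAlgSpace Y') {f : X ⟶ Y} {g : Y' ⟶ Y} {g' : X' ⟶ X} {f' : X' ⟶ Y'}
    (hsq : IsPullback g' f' f g)
    (hf : ∀ (k : FieldPt Y) (Xk : Sp S) (a : Xk ⟶ X) (b : Xk ⟶ (yon S).obj k.pt),
      IsPullback a b f k.toHom → IsLocNoethSp Xk)
    (hg : LocP @LocallyOfFiniteType g) (x' : Points X') :
    (LocPAt (fun h u => Dual3.IsGorensteinAt h u) f (Points.map g' x') →
        LocPAt (fun h u => Dual3.IsGorensteinAt h u) f' x') ∧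
      (IsFlatAtMor f (Points.map g' x') → LocPAt (fun h u => Dual3.IsGorensteinAt h u) f' x' →
        LocPAt (fun h u => Dual3.IsGorensteinAt h u) f (Points.map g' x')) ∧
      (IsFlatAtMor g (Points.map f' x') → LocPAt (fun h u => Dual3.IsGorensteinAt h u) f' x' →
        LocPAt (fun h u => Dual3.IsGorensteinAt h u) f (Points.map g' x')) := by
  obtain ⟨V, c, hce, hcs⟩ := hY.atlas
  obtain ⟨W', p, α, hpe, hps, hp⟩ := exists_chart_lift hY' hY g hce hcs
  obtain ⟨U₀, a₀, ha₀e, ha₀s⟩ := hX.atlas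
  obtain ⟨U, u₀, kU, sqU⟩ := exists_pullback hY.diag (a₀ ≫ f) c
  obtain ⟨U'', w, kU'', sqU''⟩ := exists_pullback hY.diag (a₀ ≫ f) (p ≫ g)
  obtain ⟨w', hw'⟩ := exists_map_eq (sqU.lift ((yon S).map w) ((yon S).map kU'' ≫ (yon S).map α)
    (by rw [sqU''.w, Category.assoc, hp]))
  have hw1 : w' ≫ u₀ = w := (yon S).map_injective (by rw [Functor.map_comp, hw', sqU.lift_fst])
  have hw2 : w' ≫ kU = kU'' ≫ α := (yon S).map_injective (by
    rw [Functor.map_comp, hw', sqU.lift_snd, Functor.map_comp])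
  have sqS : IsPullback w'.left kU''.left kU.left α.left := by
    refine isPullback_yon_iff.1 (IsPullback.of_right (h₁₂ := (yon S).map u₀) (v₁₃ := a₀ ≫ f) (h₂₂ := c) ?_
      (by rw [← Functor.map_comp, hw2, Functor.map_comp]) sqU)
    rw [← Functor.map_comp, hw1, ← hp]
    exact sqU''
  let l := hsq.lift ((yon S).map w ≫ a₀) ((yon S).map kU'' ≫ p) (by
    rw [Category.assoc, sqU''.w, Category.assoc])
  have hle : RepWith @Etale l := FibreFlat.chart_baseChange @Etale hsq sqU'' ha₀e hpe
  have hls : RepWith @Surjective l := FibreFlat.chart_baseChange @Surjective hsq sqU'' ha₀s hps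
  obtain ⟨u'', rfl⟩ := ofPt_surjective hls x'
  have haU : RepWith @Etale ((yon S).map u₀ ≫ a₀) := repWith_comp (repWith_baseChange sqU.flip hce) ha₀e
  have commU : ((yon S).map u₀ ≫ a₀) ≫ f = (yon S).map kU ≫ c := by rw [Category.assoc]; exact sqU.w
  have commU'' : l ≫ f' = (yon S).map kU'' ≫ p := hsq.lift_snd _ _ _
  have hpt : Points.map g' (Points.ofPt l u'') = Points.ofPt ((yon S).map u₀ ≫ a₀) (w'.left u'') := by
    rw [Points.map_ofPt, hsq.lift_fst, ← hw1, Functor.map_comp, Category.assoc, ofPt_comp]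
  have hpt' : Points.map f' (Points.ofPt l u'') = Points.ofPt p (kU''.left u'') := by
    rw [Points.map_ofPt, commU'', ofPt_comp]
  rw [hpt, hpt', locPAt_gorenstein_iff_chart hX hY haU hce commU,
    locPAt_gorenstein_iff_chart hX' hY' hle hpe commU'']
  haveI : LocallyOfFiniteType α.left := hg p c α hpe hce hp
  haveI := isLocallyNoetherian_fiber_chart hX hY hf haU commU (α.left (kU''.left u''))
  obtain ⟨h1, h2, h3⟩ := isGorensteinAt_baseChange_all sqS u''
  exact ⟨h1, fun hfl => h2 (hfl ((yon S).map u₀ ≫ a₀) c kU _ haU hce commU rfl),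
    fun hgl => h3 (hgl p c α _ hpe hce hp rfl)⟩

theorem gorenstein_iff_strictHenselization {A R : Type u} [CommRing A] [IsLocalRing A] [CommRing R] [IsLocalRing R]
    [Algebra A R] [IsLocalHom (algebraMap A R)] [Hensel.IsStrictHenselization A R] :
    LocCoh.IsGorensteinLocalRing R ↔ LocCoh.IsGorensteinLocalRing A := by
  haveI := Hensel.strictHenselization_flat A R
  have hF : LocCoh.IsGorensteinLocalRing (R ⧸ (IsLocalRing.maximalIdeal A).map (algebraMap A R)) := by
    refine gor_equiv (Ideal.quotEquivOfEq (Hensel.strictHenselization_map_maximalIdeal A R).symm) ?_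
    exact gorenstein_of_isField ((Ideal.Quotient.maximal_ideal_iff_isField_quotient _).1 inferInstance)
  constructor
  · intro h
    haveI := h.toIsNoetherian
    haveI : IsNoetherianRing A := (Hensel.strictHenselization_isNoetherianRing_iff A R).2 inferInstance
    exact (Goren.gorenstein_flat_iff.1 h).1
  · intro h
    haveI := h.toIsNoetherian
    haveI : IsNoetherianRing R := (Hensel.strictHenselization_isNoetherianRing_iff A R).1 inferInstance
    exact Goren.gorenstein_flat_iff.2 ⟨h, hF⟩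

theorem isGorenstein_of_etale {A B : Scheme.{u}} (k : A ⟶ B) [Etale k] (hB : Dual3.IsGorenstein B) :
    Dual3.IsGorenstein A := by
  haveI := hB.1
  haveI : IsLocallyNoetherian A := LocallyOfFiniteType.isLocallyNoetherian k
  exact ⟨inferInstance, fun x => (isGorenstein_stalk_iff k x (Flat.stalkMap k x)).2
    ⟨hB.2 _, (isGorensteinAt_of_etale k x).2⟩⟩

/-- A flat morphism out of a Gorenstein space. -/
theorem gorenstein_of_flat_source {X Y : Sp S} (hX : IsAlgSpace X) (hY : IsAlgSpace Y) {f : X ⟶ Y}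
    (hf : LocP @Flat f) (hY1 : IsLocNoethSp Y) (hX2 : EtaleLocally Dual3.IsGorenstein X) :
    (∀ x : Points X, LocPAt (fun h u => Dual3.IsGorensteinAt h u) f x) ∧
      ∀ (x : Points X) (V : Over S) (b : (yon S).obj V ⟶ Y), RepWith @Etale b →
        ∀ (v : ↥V.left), Points.ofPt b v = Points.map f x →
          LocCoh.IsGorensteinLocalRing (V.left.presheaf.stalk v) := by
  obtain ⟨U₀, a₀, ha₀e, ha₀s, hU₀⟩ := hX2
  have key : ∀ (V : Over S) (b : (yon S).obj V ⟶ Y), RepWith @Etale b → IsLocallyNoetherian V.left := fun V b hb =>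
    isLocallyNoetherian_of_isLocNoethSp
      (isLocNoethSp_of_lft (IsAlgSpace.yon_obj V) hY b (locP_lft_of_etale hY b hb) hY1)
  have main : ∀ (V : Over S) (b : (yon S).obj V ⟶ Y), RepWith @Etale b → ∀ (u₁ : ↥U₀.left) (v : ↥V.left),
      Points.ofPt (a₀ ≫ f) u₁ = Points.ofPt b v →
      LocPAt (fun h u => Dual3.IsGorensteinAt h u) f (Points.ofPt a₀ u₁) ∧
        LocCoh.IsGorensteinLocalRing (V.left.presheaf.stalk v) := by
    intro V b hb u₁ v hv
    obtain ⟨U, u₀, kU, sqU⟩ := exists_pullback hY.diag (a₀ ≫ f) b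
    obtain ⟨u, rfl, rfl⟩ := (ofPt_eq_iff sqU u₁ v).1 hv
    have haU : RepWith @Etale ((yon S).map u₀ ≫ a₀) := repWith_comp (repWith_baseChange sqU.flip hb) ha₀e
    have commU : ((yon S).map u₀ ≫ a₀) ≫ f = (yon S).map kU ≫ b := by rw [Category.assoc]; exact sqU.w
    have : Etale u₀.left := (repWith_yon_iff _).1 (repWith_baseChange sqU.flip hb)
    have : Flat kU.left := hf _ b kU haU hb commU
    haveI := key V b hb
    obtain ⟨h1, h2⟩ := gorensteinMor_of_flat kU.left (isGorenstein_of_etale u₀.left hU₀)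
    rw [← ofPt_comp]
    exact ⟨(locPAt_gorenstein_iff_chart hX hY haU hb commU u).2 (h1 u), h2 u⟩
  refine ⟨fun x => ?_, fun x V b hb v hv => ?_⟩
  · obtain ⟨u₁, rfl⟩ := ofPt_surjective ha₀s x
    obtain ⟨V, c, hce, hcs⟩ := hY.atlas
    obtain ⟨v, hv⟩ := ofPt_surjective hcs (Points.ofPt (a₀ ≫ f) u₁)
    exact (main V c hce u₁ v hv.symm).1
  · obtain ⟨u₁, rfl⟩ := ofPt_surjective ha₀s x
    rw [Points.map_ofPt] at hv
    exact (main V b hb u₁ v hv.symm).2

end Groth.Agent.GorMor
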