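import Groth.Agent.GorMor.Scheme
import Groth.Agent.FibreFlat.Stalk
import Mathlib.RingTheory.Unramified.LocalRing

/-!
# Being Gorenstein at a point is étale local on source and target
-/

set_option autoImplicit false
set_option linter.style.haveILetI false
universe u

open CategoryTheory AlgebraicGeometry IsLocalRing Limits

namespace Groth.Agent.GorMor

open CMFlat (nonempty_fiberStalk_equiv)

variable {X Y Z : Scheme.{u}}

theorem gorenstein_of_isField {K : Type u} [CommRing K] (h : IsField K) : LocCoh.IsGorensteinLocalRing K := by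
  letI := h.toField
  exact Goren.isGorenstein_of_regular K

theorem isGorensteinAt_of_etale (k : X ⟶ Y) [Etale k] (x : X) : Dual3.IsGorensteinAt k x := by
  refine ⟨Flat.stalkMap k x, ?_⟩
  obtain ⟨e⟩ := nonempty_fiberStalk_equiv k x
  refine gor_equiv e (gorenstein_of_isField ?_)
  letI := (k.stalkMap x).hom.toAlgebra
  haveI : IsLocalHom (algebraMap (Y.presheaf.stalk (k x)) (X.presheaf.stalk x)) :=
    inferInstanceAs (IsLocalHom (k.stalkMap x).hom)
  haveI : Algebra.FormallyUnramified (Y.presheaf.stalk (k x)) (X.presheaf.stalk x) :=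
    FormallyUnramified.stalkMap k x
  haveI : Algebra.EssFiniteType (Y.presheaf.stalk (k x)) (X.presheaf.stalk x) :=
    LocallyOfFiniteType.stalkMap k x
  exact Algebra.FormallyUnramified.isField_quotient_map_maximalIdeal

theorem isNoetherianRing_quot_of_essFiniteType {A B C : Type u} [CommRing A] [CommRing B] [CommRing C]
    [Algebra A B] [Algebra B C] [Algebra A C] [IsScalarTower A B C] [Algebra.EssFiniteType B C] (m : Ideal A)
    [IsNoetherianRing (B ⧸ m.map (algebraMap A B))] : IsNoetherianRing (C ⧸ m.map (algebraMap A C)) := by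
  let I := m.map (algebraMap A B)
  let J := m.map (algebraMap A C)
  have hIJ : J = I.map (algebraMap B C) := by
    show J = (m.map (algebraMap A B)).map (algebraMap B C)
    rw [Ideal.map_map, ← IsScalarTower.algebraMap_eq]
  letI : Algebra (B ⧸ I) (C ⧸ J) :=
    (Ideal.quotientMap J (algebraMap B C) (Ideal.map_le_iff_le_comap.1 hIJ.ge)).toAlgebra
  haveI : IsScalarTower B (B ⧸ I) (C ⧸ J) := IsScalarTower.of_algebraMap_eq fun _ => rfl
  haveI : Algebra.FiniteType C (C ⧸ J) := inferInstance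
  haveI : Algebra.EssFiniteType B (C ⧸ J) := Algebra.EssFiniteType.comp B C (C ⧸ J)
  haveI : Algebra.EssFiniteType (B ⧸ I) (C ⧸ J) := Algebra.EssFiniteType.of_comp B (B ⧸ I) (C ⧸ J)
  exact Algebra.EssFiniteType.isNoetherianRing (B ⧸ I) (C ⧸ J)

theorem isNoetherianRing_fiber_stalk_precomp (k : X ⟶ Y) [LocallyOfFiniteType k] (h : Y ⟶ Z) (x : X)
    [IsNoetherianRing ((h.fiber (h (k x))).presheaf.stalk (h.asFiber (k x)))] :
    IsNoetherianRing (((k ≫ h).fiber ((k ≫ h) x)).presheaf.stalk ((k ≫ h).asFiber x)) := by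
  letI := (k.stalkMap x).hom.toAlgebra
  letI : Algebra (Z.presheaf.stalk (h (k x))) (Y.presheaf.stalk (k x)) := (h.stalkMap (k x)).hom.toAlgebra
  letI : Algebra (Z.presheaf.stalk (h (k x))) (X.presheaf.stalk x) :=
    ((k.stalkMap x).hom.comp (h.stalkMap (k x)).hom).toAlgebra
  haveI : IsScalarTower (Z.presheaf.stalk (h (k x))) (Y.presheaf.stalk (k x)) (X.presheaf.stalk x) :=
    IsScalarTower.of_algebraMap_eq fun _ => rfl
  haveI : Algebra.EssFiniteType (Y.presheaf.stalk (k x)) (X.presheaf.stalk x) :=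
    LocallyOfFiniteType.stalkMap k x
  obtain ⟨e1⟩ := nonempty_fiberStalk_equiv h (k x)
  obtain ⟨e0⟩ := nonempty_fiberStalk_equiv (k ≫ h) x
  haveI : IsNoetherianRing (Y.presheaf.stalk (k x) ⧸ (maximalIdeal (Z.presheaf.stalk (h (k x)))).map
      (algebraMap (Z.presheaf.stalk (h (k x))) (Y.presheaf.stalk (k x)))) := isNoetherianRing_of_ringEquiv _ e1.symm
  haveI := isNoetherianRing_quot_of_essFiniteType (B := Y.presheaf.stalk (k x)) (C := X.presheaf.stalk x)
    (maximalIdeal (Z.presheaf.stalk (h (k x))))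
  exact isNoetherianRing_of_ringEquiv _ ((Ideal.quotEquivOfEq (by
      have e : ((k ≫ h).stalkMap x).hom = (k.stalkMap x).hom.comp (h.stalkMap (k x)).hom :=
        congrArg CommRingCat.Hom.hom (Scheme.Hom.stalkMap_comp k h x)
      rw [e]; rfl)).trans e0 :
    (X.presheaf.stalk x ⧸ (maximalIdeal (Z.presheaf.stalk (h (k x)))).map
      (algebraMap (Z.presheaf.stalk (h (k x))) (X.presheaf.stalk x))) ≃+* _)

theorem isGorensteinAt_precomp_iff (k : X ⟶ Y) [Etale k] (h : Y ⟶ Z) (x : X) :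
    Dual3.IsGorensteinAt (k ≫ h) x ↔ Dual3.IsGorensteinAt h (k x) := by
  refine ⟨fun H => (isGorensteinAt_of_comp H (Flat.stalkMap k x)).2, fun H => ?_⟩
  haveI := H.2.toIsNoetherian
  haveI := isNoetherianRing_fiber_stalk_precomp k h x
  exact ⟨FibreFlat.flatAt_comp (Flat.stalkMap k x) H.1,
    (fiber_stalk_comp k h x (Flat.stalkMap k x)).mpr ⟨H.2, (isGorensteinAt_of_etale k x).2⟩⟩

theorem isGorensteinAt_postcomp_iff (h : X ⟶ Y) (l : Y ⟶ Z) [Etale l] (x : X) :
    Dual3.IsGorensteinAt (h ≫ l) x ↔ Dual3.IsGorensteinAt h x := by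
  letI : Algebra (Z.presheaf.stalk (l (h x))) (Y.presheaf.stalk (h x)) := (l.stalkMap (h x)).hom.toAlgebra
  haveI : IsLocalHom (algebraMap (Z.presheaf.stalk (l (h x))) (Y.presheaf.stalk (h x))) :=
    inferInstanceAs (IsLocalHom (l.stalkMap (h x)).hom)
  haveI : Algebra.FormallyUnramified (Z.presheaf.stalk (l (h x))) (Y.presheaf.stalk (h x)) :=
    FormallyUnramified.stalkMap l (h x)
  haveI : Algebra.EssFiniteType (Z.presheaf.stalk (l (h x))) (Y.presheaf.stalk (h x)) :=
    LocallyOfFiniteType.stalkMap l (h x)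
  have hm : (maximalIdeal (Y.presheaf.stalk (h x))).map (h.stalkMap x).hom =
      (maximalIdeal (Z.presheaf.stalk ((h ≫ l) x))).map ((h ≫ l).stalkMap x).hom := by
    have e : ((h ≫ l).stalkMap x).hom = (h.stalkMap x).hom.comp (l.stalkMap (h x)).hom :=
      congrArg CommRingCat.Hom.hom (Scheme.Hom.stalkMap_comp h l x)
    rw [← Algebra.FormallyUnramified.map_maximalIdeal (R := Z.presheaf.stalk (l (h x))), e]
    exact Ideal.map_map _ _
  obtain ⟨e0⟩ := nonempty_fiberStalk_equiv (h ≫ l) x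
  obtain ⟨e1⟩ := nonempty_fiberStalk_equiv h x
  let φ := e1.symm.trans ((Ideal.quotEquivOfEq hm).trans e0)
  exact ⟨fun H => ⟨FibreFlat.flatAt_cancel_etale (g := l) H.1, gor_equiv φ.symm H.2⟩,
    fun H => ⟨FibreFlat.flatAt_comp H.1 (Flat.stalkMap l (h x)), gor_equiv φ H.2⟩⟩

/-- Gorenstein at a point is étale local on source and target. -/
theorem isGorensteinAt_iff_of_etale {U V U' V' : Scheme.{u}} {h : U ⟶ V} {h' : U' ⟶ V'} {k : U' ⟶ U} {l : V' ⟶ V}
    [Etale k] [Etale l] (w : k ≫ h = h' ≫ l) (u : U') :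
    Dual3.IsGorensteinAt h (k u) ↔ Dual3.IsGorensteinAt h' u := by
  rw [← isGorensteinAt_precomp_iff k h u, w, isGorensteinAt_postcomp_iff]

end Groth.Agent.GorMor
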