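import Groth.Agent.Goren.Flat
import Groth.Agent.FlatDepth.Fibre

/-!
# The Gorenstein locus of a finite projective algebra

For a finite projective `A`-algebra `B` a prime `q` of `B` is a Gorenstein point of its fibre iff some
functional `φ : B →ₗ[A] A` generates the dualising module `Hom_A(B, A)` near `q`.
-/

set_option autoImplicit false
set_option maxSynthPendingDepth 3
set_option linter.style.haveILetI false

universe u

open IsLocalRing TensorProduct
open Algebra.TensorProduct (includeRight)

noncomputable section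

namespace Groth.Agent.GorMor

variable (A B : Type u) [CommRing A] [CommRing B] [Algebra A B]

/-- The dualising module `Hom_A(B, A)`. -/
def Omega : Type u := B →ₗ[A] A

instance : AddCommGroup (Omega A B) := inferInstanceAs (AddCommGroup (B →ₗ[A] A))
instance : FunLike (Omega A B) B A := inferInstanceAs (FunLike (B →ₗ[A] A) B A)

instance : Module A (Omega A B) := inferInstanceAs (Module A (B →ₗ[A] A))

instance : Module B (Omega A B) where
  smul b φ := (φ : B →ₗ[A] A).comp (LinearMap.mulLeft A b)
  one_smul φ := LinearMap.ext fun x => congrArg φ (one_mul x)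
  mul_smul b c φ := LinearMap.ext fun x => congrArg φ (show b * c * x = c * (b * x) by ring)
  smul_zero b := LinearMap.ext fun x => rfl
  smul_add b φ ψ := LinearMap.ext fun x => rfl
  add_smul b c φ := LinearMap.ext fun x =>
    (congrArg φ (add_mul b c x)).trans ((φ : B →ₗ[A] A).map_add _ _)
  zero_smul φ := LinearMap.ext fun x =>
    (congrArg φ (zero_mul x)).trans (φ : B →ₗ[A] A).map_zero

variable {A B}

theorem Omega.smul_apply (b : B) (φ : Omega A B) (x : B) : (b • φ) x = φ (b * x) := rfl

instance : IsScalarTower A B (Omega A B) where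
  smul_assoc a b φ := LinearMap.ext fun x =>
    (congrArg φ (smul_mul_assoc a b x)).trans ((φ : B →ₗ[A] A).map_smul a _)

/-- `φ` generates the dualising module near `q`. -/
def Generates (q : Ideal B) (φ : Omega A B) : Prop :=
  ∃ s ∉ q, ∀ χ : Omega A B, ∃ b : B, s • χ = b • φ

theorem isOpen_generates :
    IsOpen {q : PrimeSpectrum B | ∃ φ : Omega A B, Generates q.asIdeal φ} := by
  refine isOpen_iff_forall_mem_open.2 fun q ⟨φ, s, hs, h⟩ => ?_
  exact ⟨PrimeSpectrum.basicOpen s, fun q' hq' => ⟨φ, s, hq', h⟩, (PrimeSpectrum.basicOpen s).isOpen, hs⟩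

variable [Module.Finite A B] [Module.Projective A B]

theorem exists_dualBasis : ∃ (n : ℕ) (e : Fin n → B) (f : Fin n → Omega A B), ∀ x : B, ∑ i, f i x • e i = x := by
  obtain ⟨n, π, hπ⟩ := Module.Finite.exists_fin' A B
  obtain ⟨g, hg⟩ := Module.projective_lifting_property π LinearMap.id hπ
  refine ⟨n, fun i => π (Pi.single i 1), fun i => ((LinearMap.proj i).comp g : B →ₗ[A] A), fun x => ?_⟩
  show ∑ i, g x i • π (Pi.single i 1) = x
  simp only [← map_smul, ← map_sum]
  refine (congrArg π ?_).trans (LinearMap.congr_fun hg x)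
  ext j
  simp [Pi.single_apply]

instance : Module.Finite A (Omega A B) := inferInstanceAs (Module.Finite A (B →ₗ[A] A))
instance : Module.Finite B (Omega A B) := Module.Finite.of_restrictScalars_finite A B (Omega A B)

variable (p : Ideal A) [p.IsPrime]

/-- A functional on the fibre. -/
def fibreFun (φ : Omega A B) : p.Fiber B →ₗ[p.ResidueField] p.ResidueField :=
  (TensorProduct.AlgebraTensorModule.rid A p.ResidueField p.ResidueField).toLinearMap.comp
    ((φ : B →ₗ[A] A).baseChange p.ResidueField)

theorem fibreFun_one_tmul (φ : Omega A B) (x : B) :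
    fibreFun p φ (1 ⊗ₜ[A] x) = algebraMap A p.ResidueField (φ x) := by
  simp [fibreFun, Algebra.smul_def]
  rfl

theorem fibreFun_smul (b : B) (φ : Omega A B) :
    fibreFun p (b • φ) = (fibreFun p φ).comp (LinearMap.mulLeft p.ResidueField (1 ⊗ₜ[A] b : p.Fiber B)) := by
  refine LinearMap.ext fun c => ?_
  induction c using TensorProduct.induction_on with
  | zero => simp
  | tmul r x =>
    simp [fibreFun, Algebra.TensorProduct.tmul_mul_tmul]
    rfl
  | add x y hx hy => rw [map_add, map_add, hx, hy]

theorem eq_sum_fibreFun {n : ℕ} {e : Fin n → B} {f : Fin n → Omega A B} (h : ∀ x : B, ∑ i, f i x • e i = x)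
    (ψ : p.Fiber B →ₗ[p.ResidueField] p.ResidueField) :
    ψ = ∑ i, ψ (1 ⊗ₜ[A] e i) • fibreFun p (f i) := by
  refine LinearMap.ext fun c => ?_
  obtain ⟨r, hr, x, hx⟩ := Ideal.Fiber.exists_smul_eq_one_tmul p c
  have hr' : algebraMap A p.ResidueField r ≠ 0 := fun h0 => hr (Ideal.algebraMap_residueField_eq_zero.1 h0)
  have hc : c = (algebraMap A p.ResidueField r)⁻¹ • ((1 : p.ResidueField) ⊗ₜ[A] x) := by
    rw [← hx, ← algebraMap_smul p.ResidueField r c, smul_smul, inv_mul_cancel₀ hr', one_smul]
  have hx2 : (1 : p.ResidueField) ⊗ₜ[A] x = ∑ i, algebraMap A p.ResidueField (f i x) • ((1 : p.ResidueField) ⊗ₜ[A] e i) := by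
    conv_lhs => rw [← h x]
    rw [TensorProduct.tmul_sum]
    exact Finset.sum_congr rfl fun i _ => by rw [TensorProduct.tmul_smul, algebraMap_smul]
  rw [hc, map_smul, map_smul]
  congr 1
  rw [LinearMap.sum_apply, hx2, map_sum]
  refine Finset.sum_congr rfl fun i _ => ?_
  rw [map_smul, LinearMap.smul_apply, ← hx2, fibreFun_one_tmul, smul_eq_mul, smul_eq_mul, mul_comm]

theorem mem_smul_of_fibreFun_eq_zero (φ : Omega A B) (h : fibreFun p φ = 0) :
    φ ∈ (p.map (algebraMap A B)) • (⊤ : Submodule B (Omega A B)) := by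
  obtain ⟨n, e, f, hef⟩ := exists_dualBasis (A := A) (B := B)
  have hp : ∀ x, φ x ∈ p := fun x => by
    rw [← Ideal.algebraMap_residueField_eq_zero, ← fibreFun_one_tmul, h, LinearMap.zero_apply]
  have : φ = ∑ i, algebraMap A B (φ (e i)) • f i := by
    refine LinearMap.ext fun x => ?_
    rw [show (∑ i, algebraMap A B (φ (e i)) • f i) = ∑ i, φ (e i) • f i from
      Finset.sum_congr rfl fun i _ => algebraMap_smul B _ _]
    show φ x = (∑ i, φ (e i) • (f i : B →ₗ[A] A)) x
    conv_lhs => rw [← hef x]
    refine (map_sum (LinearMap.toAddMonoidHom φ) _ _).trans (Eq.trans (Finset.sum_congr rfl fun i _ => ?_)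
      (LinearMap.sum_apply Finset.univ (fun i => φ (e i) • (f i : B →ₗ[A] A)) x).symm)
    exact ((φ : B →ₗ[A] A).map_smul _ _).trans (mul_comm _ _)
  rw [this]
  exact Submodule.sum_mem _ fun i _ => Submodule.smul_mem_smul (Ideal.mem_map_of_mem _ (hp _)) trivial

/-- An element outside `Q` killing the kernel of the map to the local ring. -/
theorem exists_killer (Q : Ideal (p.Fiber B)) [Q.IsPrime] :
    ∃ b₀ : B, b₀ ∉ Q.comap (includeRight : B →ₐ[A] p.Fiber B) ∧
      ∀ c : p.Fiber B, algebraMap (p.Fiber B) (Localization.AtPrime Q) c = 0 → (1 ⊗ₜ[A] b₀) * c = 0 := by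
  haveI : IsArtinianRing (p.Fiber B) := IsArtinianRing.of_finite p.ResidueField _
  have key : ∀ s : Finset (p.Fiber B), (∀ c ∈ s, algebraMap (p.Fiber B) (Localization.AtPrime Q) c = 0) →
      ∃ t ∉ Q, ∀ c ∈ s, t * c = 0 := by
    classical
    intro s hs
    induction s using Finset.induction_on with
    | empty => exact ⟨1, fun h => ‹Q.IsPrime›.ne_top ((Ideal.eq_top_iff_one Q).2 h), by simp⟩
    | @insert a s ha ih =>
      obtain ⟨t, ht, hts⟩ := ih fun c hc => hs c (Finset.mem_insert_of_mem hc)
      obtain ⟨⟨m, hm⟩, hma⟩ := (IsLocalization.map_eq_zero_iff Q.primeCompl (Localization.AtPrime Q) a).1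
        (hs a (Finset.mem_insert_self a s))
      refine ⟨m * t, fun h => (‹Q.IsPrime›.mem_or_mem h).elim hm ht, fun c hc => ?_⟩
      rcases Finset.mem_insert.1 hc with rfl | hc
      · rw [mul_assoc, mul_comm t c, ← mul_assoc, show m * c = 0 from hma, zero_mul]
      · rw [mul_assoc, hts c hc, mul_zero]
  obtain ⟨s, hs⟩ := (IsNoetherian.noetherian (RingHom.ker (algebraMap (p.Fiber B) (Localization.AtPrime Q))) :
    (RingHom.ker (algebraMap (p.Fiber B) (Localization.AtPrime Q))).FG)
  obtain ⟨t, ht, hts⟩ := key s fun c hc => (hs.le (Submodule.subset_span hc) :)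
  obtain ⟨r, hr, b₀, hb⟩ := Ideal.Fiber.exists_smul_eq_one_tmul p t
  refine ⟨b₀, fun h => ?_, fun c hc => ?_⟩
  · rw [Ideal.mem_comap, Algebra.TensorProduct.includeRight_apply, ← hb, Algebra.smul_def] at h
    refine (‹Q.IsPrime›.mem_or_mem h).elim (fun h' => ?_) ht
    refine hr ((Ideal.over_def Q p).symm ▸ ?_)
    exact h'
  · rw [← hb, smul_mul_assoc]
    have hc' : c ∈ Submodule.span (p.Fiber B) (s : Set (p.Fiber B)) := hs.ge hc
    have : t * c = 0 := by
      refine Submodule.span_induction (fun x hx => hts x hx) (mul_zero t) ?_ ?_ hc'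
      · intro x y _ _ hx hy
        rw [mul_add, hx, hy, add_zero]
      · intro a x _ hx
        rw [smul_eq_mul, mul_left_comm, hx, mul_zero]
    rw [this, smul_zero]

/-- A functional generating near `q` makes the fibre local ring have simple socle. -/
theorem socSimple_of_generates (Q : Ideal (p.Fiber B)) [Q.IsPrime]
    (φ : Omega A B) (hφ : Generates (Q.comap (includeRight : B →ₐ[A] p.Fiber B)) φ) :
    Goren.SocSimple (Localization.AtPrime Q) := by
  obtain ⟨s, hs, hgen⟩ := hφ
  obtain ⟨n, e, f, hef⟩ := exists_dualBasis (A := A) (B := B)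
  haveI : IsArtinianRing (p.Fiber B) := IsArtinianRing.of_finite p.ResidueField _
  haveI : IsArtinianRing (Localization.AtPrime Q) := IsArtinianRing.localization_artinian Q.primeCompl _
  let π := Algebra.linearMap (p.Fiber B) (Localization.AtPrime Q)
  have hsurj := IsArtinianRing.localization_surjective Q.primeCompl (Localization.AtPrime Q)
  let g : p.Fiber B := 1 ⊗ₜ[A] s
  have hg : IsUnit (algebraMap (p.Fiber B) (Localization.AtPrime Q) g) :=
    IsLocalization.map_units (Localization.AtPrime Q) (⟨g, hs⟩ : Q.primeCompl)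
  -- every functional twisted by `g` is a multiple of `φ`
  have hmain : ∀ ψ : p.Fiber B →ₗ[p.ResidueField] p.ResidueField, ∃ c : p.Fiber B,
      ∀ x, ψ (g * x) = fibreFun p φ (c * x) := fun ψ => by
    choose b hb using fun i => hgen (f i)
    refine ⟨∑ i, ψ (1 ⊗ₜ[A] e i) • ((1 : p.ResidueField) ⊗ₜ[A] b i), fun x => ?_⟩
    conv_lhs => rw [eq_sum_fibreFun p hef ψ]
    rw [LinearMap.sum_apply, Finset.sum_mul, map_sum]
    refine Finset.sum_congr rfl fun i _ => ?_
    rw [LinearMap.smul_apply, smul_mul_assoc, map_smul]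
    exact congrArg _ (LinearMap.congr_fun ((fibreFun_smul p s (f i)).symm.trans
      ((congrArg (fibreFun p) (hb i)).trans (fibreFun_smul p (b i) φ))) x)
  obtain ⟨t, ht0, ht⟩ : ∃ t : Localization.AtPrime Q, t ≠ 0 ∧ ∀ x ∈ maximalIdeal (Localization.AtPrime Q), x * t = 0 :=
    Goren.exists_socle ((ringKrullDimZero_iff_ringKrullDim_eq_zero).1 inferInstance)
  refine ⟨t, ht0, ht, fun a ha => ?_⟩
  by_contra hat
  -- separate `a` from the preimage of `⟨t⟩`
  obtain ⟨a', rfl⟩ := hsurj a
  let W : Submodule p.ResidueField (p.Fiber B) :=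
    ((Ideal.span {t}).comap (algebraMap (p.Fiber B) (Localization.AtPrime Q))).restrictScalars p.ResidueField
  have hW : g * a' ∉ W := fun h => hat (by
    have h' : algebraMap _ (Localization.AtPrime Q) g * algebraMap _ (Localization.AtPrime Q) a' ∈
        Ideal.span ({t} : Set (Localization.AtPrime Q)) := by
      rw [← map_mul]; exact h
    exact (Ideal.unit_mul_mem_iff_mem _ hg).1 h')
  obtain ⟨ψ, hψa, hψW⟩ := Submodule.exists_dual_map_eq_bot_of_notMem hW inferInstance
  have hψW' : ∀ w ∈ W, ψ w = 0 := fun w hw => by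
    have := Submodule.mem_map_of_mem (f := ψ) hw
    rw [hψW] at this
    exact this
  obtain ⟨c, hc⟩ := hmain ψ
  by_cases hcQ : c ∈ Q
  · -- then `c` kills the socle element `a`
    obtain ⟨⟨m, hm⟩, hma⟩ := (IsLocalization.map_eq_zero_iff Q.primeCompl (Localization.AtPrime Q) (c * a')).1 (by
      rw [map_mul]
      exact ha _ ((IsLocalization.AtPrime.to_map_mem_maximal_iff _ Q c).2 hcQ))
    -- move `a'` inside the factor cut out by `Q`
    obtain ⟨u', hu'⟩ := hsurj (↑((IsLocalization.map_units (Localization.AtPrime Q) (⟨m, hm⟩ : Q.primeCompl)).unit⁻¹))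
    have h0 : ψ (g * (m * u' * a')) = 0 := by
      rw [hc, show c * (m * u' * a') = u' * (m * (c * a')) by ring, show m * (c * a') = 0 from hma, mul_zero, map_zero]
    have h1 : g * (m * u' * a') - g * a' ∈ W := by
      show algebraMap _ (Localization.AtPrime Q) (g * (m * u' * a') - g * a') ∈ Ideal.span _
      rw [map_sub, map_mul, map_mul, map_mul, map_mul, hu', IsUnit.mul_val_inv, one_mul, sub_self]
      exact zero_mem _
    refine hψa ?_
    have := hψW' _ h1
    rw [map_sub, h0, zero_sub, neg_eq_zero] at this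
    exact this
  · -- then `φ` kills the preimage of `⟨t⟩`
    obtain ⟨t', rfl⟩ := hsurj t
    obtain ⟨c', hc'⟩ := hsurj (↑((IsLocalization.map_units (Localization.AtPrime Q) (⟨c, hcQ⟩ : Q.primeCompl)).unit⁻¹))
    have hWφ : ∀ w ∈ W, fibreFun p φ (c * w) = 0 := fun w hw => by
      rw [← hc]
      refine hψW' _ ?_
      show algebraMap _ (Localization.AtPrime Q) (g * w) ∈ Ideal.span _
      rw [map_mul]
      exact Ideal.mul_mem_left _ _ hw
    -- a functional detecting `g' * t'` for a suitable element `g'`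
    obtain ⟨b₀, hb₀, hkill⟩ := exists_killer p Q
    let g' : p.Fiber B := 1 ⊗ₜ[A] b₀
    have hne : g * (g' * t') ≠ 0 := fun h0 => ht0 (by
      have h1 := congrArg (algebraMap (p.Fiber B) (Localization.AtPrime Q)) h0
      rw [map_zero, map_mul, map_mul] at h1
      exact (IsLocalization.map_units (Localization.AtPrime Q) (⟨g', hb₀⟩ : Q.primeCompl)).mul_right_eq_zero.1
        (hg.mul_right_eq_zero.1 h1))
    obtain ⟨θ, hθ, -⟩ := Submodule.exists_dual_map_eq_bot_of_notMem
      (p := (⊥ : Submodule p.ResidueField (p.Fiber B))) (fun h => hne ((Submodule.mem_bot _).1 h)) inferInstance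
    obtain ⟨d, hd⟩ := hmain θ
    refine hθ ?_
    have hz : g' * ((c * c' - 1) * (d * t')) = 0 := hkill _ (by
      rw [map_mul, map_sub, map_mul, map_one, hc', IsUnit.mul_val_inv, sub_self, zero_mul])
    rw [hd, show d * (g' * t') = c * (c' * (g' * (d * t'))) by linear_combination -hz]
    refine hWφ _ ?_
    show algebraMap _ (Localization.AtPrime Q) (c' * (g' * (d * t'))) ∈ Ideal.span _
    rw [map_mul, map_mul, map_mul]
    exact Ideal.mul_mem_left _ _ (Ideal.mul_mem_left _ _
      (Ideal.mul_mem_left _ _ (Ideal.mem_span_singleton_self _)))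

/-- Simple socle of the fibre local ring gives a generating functional. -/
theorem generates_of_socSimple (Q : Ideal (p.Fiber B)) [Q.IsPrime]
    (h : Goren.SocSimple (Localization.AtPrime Q)) :
    ∃ φ : Omega A B, Generates (Q.comap (includeRight : B →ₐ[A] p.Fiber B)) φ := by
  obtain ⟨t, ht0, htm, hts⟩ := h
  obtain ⟨n, e, f, hef⟩ := exists_dualBasis (A := A) (B := B)
  haveI : IsArtinianRing (p.Fiber B) := IsArtinianRing.of_finite p.ResidueField _
  haveI : IsArtinianRing (Localization.AtPrime Q) := IsArtinianRing.localization_artinian Q.primeCompl _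
  have hsurj := IsArtinianRing.localization_surjective Q.primeCompl (Localization.AtPrime Q)
  obtain ⟨b₀, hb₀, hkill⟩ := exists_killer p Q
  let g : p.Fiber B := 1 ⊗ₜ[A] b₀
  have hgu : IsUnit (algebraMap (p.Fiber B) (Localization.AtPrime Q) g) :=
    IsLocalization.map_units (Localization.AtPrime Q) (⟨g, hb₀⟩ : Q.primeCompl)
  have hg0 : ∀ {x y : p.Fiber B}, algebraMap _ (Localization.AtPrime Q) x = algebraMap _ _ y → g * x = g * y :=
    fun {x y} hxy => sub_eq_zero.1 (by rw [← mul_sub]; exact hkill _ (by rw [map_sub, hxy, sub_self]))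
  -- the embedding of the local ring as the `g`-part of the fibre
  let π : p.Fiber B →ₗ[p.ResidueField] Localization.AtPrime Q :=
    (Algebra.linearMap (p.Fiber B) (Localization.AtPrime Q)).restrictScalars p.ResidueField
  choose sec hsec using hsurj
  let σ : Localization.AtPrime Q →ₗ[p.ResidueField] p.Fiber B :=
    { toFun := fun y => g * sec y
      map_add' := fun x y => by
        rw [← mul_add]; exact hg0 (by rw [map_add, hsec, hsec, hsec])
      map_smul' := fun r x => by
        rw [RingHom.id_apply, Algebra.smul_def r (g * sec x), ← mul_assoc, mul_comm _ g, mul_assoc]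
        refine hg0 ?_
        rw [map_mul, hsec, hsec, Algebra.smul_def, ← IsScalarTower.algebraMap_apply] }
  have hσ : ∀ x, σ (π x) = g * x := fun x => hg0 (hsec _)
  have hπσ : ∀ y, π (σ y) = π g * y := fun y => by
    show algebraMap _ (Localization.AtPrime Q) (g * sec y) = _
    rw [map_mul, hsec]; rfl
  have hσt : σ t ≠ 0 := fun h0 => ht0 (hgu.mul_right_eq_zero.1 (by
    have := (hπσ t).symm.trans (by rw [h0, map_zero])
    exact this))
  obtain ⟨ψ, hψ, -⟩ := Submodule.exists_dual_map_eq_bot_of_notMem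
    (p := (⊥ : Submodule p.ResidueField (p.Fiber B))) (fun h => hσt ((Submodule.mem_bot _).1 h)) inferInstance
  obtain ⟨i, hi⟩ : ∃ i, fibreFun p (f i) (σ t) ≠ 0 := by
    by_contra hall
    refine hψ ?_
    rw [eq_sum_fibreFun p hef ψ, LinearMap.sum_apply]
    exact Finset.sum_eq_zero fun i _ => by
      rw [LinearMap.smul_apply, show fibreFun p (f i) (σ t) = 0 from not_not.1 fun h => hall ⟨i, h⟩, smul_zero]
  let φ := f i
  let φt := (fibreFun p φ).comp σ
  -- the pairing is nondegenerate
  let Φ : Localization.AtPrime Q →ₗ[p.ResidueField] (Localization.AtPrime Q →ₗ[p.ResidueField] p.ResidueField) :=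
    { toFun := fun y => φt.comp (LinearMap.mulLeft p.ResidueField y)
      map_add' := fun x y => LinearMap.ext fun z => by simp [add_mul]
      map_smul' := fun r x => LinearMap.ext fun z => by simp }
  haveI : Module.Finite p.ResidueField (Localization.AtPrime Q) :=
    Module.Finite.of_surjective π (IsArtinianRing.localization_surjective Q.primeCompl _)
  have hΦinj : Function.Injective Φ := by
    refine (injective_iff_map_eq_zero Φ).2 fun y hy => ?_
    by_contra hy0
    -- the ideal generated by `y` meets the socle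
    obtain ⟨k, hk⟩ := IsArtinianRing.isNilpotent_jacobson_bot (R := Localization.AtPrime Q)
    rw [IsLocalRing.jacobson_eq_maximalIdeal ⊥ bot_ne_top] at hk
    have : ∀ j, ∀ y, y ≠ 0 → (maximalIdeal (Localization.AtPrime Q) ^ j) * Ideal.span {y} = ⊥ →
        ∃ w, w * y ≠ 0 ∧ ∀ x ∈ maximalIdeal (Localization.AtPrime Q), x * (w * y) = 0 := by
      intro j
      induction j with
      | zero =>
        intro y hy0 hj
        rw [pow_zero, one_mul, Ideal.span_singleton_eq_bot] at hj
        exact absurd hj hy0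
      | succ j ih =>
        intro y hy0 hj
        by_cases hall : ∀ x ∈ maximalIdeal (Localization.AtPrime Q), x * y = 0
        · exact ⟨1, by rwa [one_mul], by simpa using hall⟩
        push Not at hall
        obtain ⟨x, hx, hxy⟩ := hall
        obtain ⟨w, hw, hw'⟩ := ih (x * y) hxy (by
          rw [eq_bot_iff, ← hj, pow_succ, mul_assoc]
          exact Ideal.mul_mono_right (by
            rw [Ideal.span_singleton_le_iff_mem]
            exact Ideal.mul_mem_mul hx (Ideal.mem_span_singleton_self y)))
        exact ⟨w * x, by rwa [mul_assoc], by simpa [mul_assoc] using hw'⟩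
    obtain ⟨w, hw, hwm⟩ := this k y hy0 (by rw [hk]; simp)
    obtain ⟨d, hd⟩ := Ideal.mem_span_singleton'.1 (hts _ hwm)
    by_cases hdu : IsUnit d
    · refine hi ?_
      have := LinearMap.congr_fun hy (↑hdu.unit⁻¹ * w)
      simp only [Φ, LinearMap.coe_mk, AddHom.coe_mk, LinearMap.comp_apply, LinearMap.mulLeft_apply,
        LinearMap.zero_apply, φt] at this
      rwa [show y * (↑hdu.unit⁻¹ * w) = ↑hdu.unit⁻¹ * (w * y) by ring, ← hd, ← mul_assoc,
        IsUnit.val_inv_mul, one_mul] at this
    · exact hw (hd.symm.trans (htm _ hdu))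
  have hΦsurj : Function.Surjective Φ :=
    (LinearMap.injective_iff_surjective_of_finrank_eq_finrank Subspace.dual_finrank_eq.symm).1 hΦinj
  refine ⟨φ, ?_⟩
  -- Nakayama
  let q := Q.comap (includeRight : B →ₐ[A] p.Fiber B)
  have hpq : p.map (algebraMap A B) ≤ q := Ideal.map_le_iff_le_comap.2 fun a ha => by
    show includeRight (R := A) (A := p.ResidueField) (algebraMap A B a) ∈ Q
    rw [AlgHom.commutes, IsScalarTower.algebraMap_apply A p.ResidueField (p.Fiber B),
      Ideal.algebraMap_residueField_eq_zero.2 ha, map_zero]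
    exact zero_mem _
  let M := Omega A B ⧸ Submodule.span B {φ}
  have hM : ∀ χ : Omega A B, ∃ s ∉ q, s • (Submodule.Quotient.mk χ : M) ∈ q • (⊤ : Submodule B M) := fun χ => by
    obtain ⟨y, hy⟩ := hΦsurj ((fibreFun p χ).comp σ)
    obtain ⟨r, hr, b, hb⟩ := Ideal.Fiber.exists_smul_eq_one_tmul p (sec y)
    refine ⟨algebraMap A B r * b₀, fun hm => ?_, ?_⟩
    · refine (‹Q.IsPrime›.mem_or_mem (by
        rw [Ideal.mem_comap, map_mul] at hm; exact hm)).elim (fun h' => hr ?_) hb₀
      rw [AlgHom.commutes] at h'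
      exact (Ideal.over_def Q p).symm ▸ h'
    have hzero : fibreFun p ((algebraMap A B r * b₀) • χ - (b * b₀) • φ) = 0 := by
      refine LinearMap.ext fun x => ?_
      have h1 := LinearMap.congr_fun hy (π x)
      simp only [Φ, φt, LinearMap.coe_mk, AddHom.coe_mk, LinearMap.comp_apply, LinearMap.mulLeft_apply, hσ] at h1
      have h2 : y * π x = π (sec y * x) := by
        show _ = algebraMap _ _ (sec y * x)
        rw [map_mul, hsec]; rfl
      rw [h2, hσ] at h1
      have hlin : fibreFun p ((algebraMap A B r * b₀) • χ - (b * b₀) • φ) =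
          fibreFun p ((algebraMap A B r * b₀) • χ) - fibreFun p ((b * b₀) • φ) := by
        simp only [fibreFun]
        rw [← LinearMap.comp_sub, ← LinearMap.baseChange_sub]
        rfl
      rw [hlin, LinearMap.sub_apply, LinearMap.zero_apply, fibreFun_smul, fibreFun_smul, LinearMap.comp_apply,
        LinearMap.comp_apply, LinearMap.mulLeft_apply, LinearMap.mulLeft_apply, sub_eq_zero]
      have e1 : (1 ⊗ₜ[A] (algebraMap A B r * b₀) : p.Fiber B) * x = algebraMap A p.ResidueField r • (g * x) := by
        rw [← Algebra.smul_def, TensorProduct.tmul_smul, smul_mul_assoc, algebraMap_smul]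
      have e2 : (1 ⊗ₜ[A] (b * b₀) : p.Fiber B) * x = algebraMap A p.ResidueField r • (g * (sec y * x)) := by
        rw [show (1 ⊗ₜ[A] (b * b₀) : p.Fiber B) = (1 ⊗ₜ[A] b) * (1 ⊗ₜ[A] b₀) by simp, ← hb, algebraMap_smul,
          smul_mul_assoc, smul_mul_assoc, mul_comm (sec y) _, mul_assoc]
      rw [e1, e2, map_smul, map_smul, h1]
    have h2 := Submodule.mem_map_of_mem (f := (Submodule.span B {φ}).mkQ)
      (Submodule.smul_mono_left hpq (mem_smul_of_fibreFun_eq_zero p _ hzero))
    rw [Submodule.map_smul'', Submodule.map_top, Submodule.range_mkQ, map_sub, map_smul, map_smul] at h2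
    rwa [show (Submodule.span B {φ}).mkQ φ = 0 from
      (Submodule.Quotient.mk_eq_zero _).2 (Submodule.mem_span_singleton_self φ), smul_zero, sub_zero] at h2
  classical
  obtain ⟨T, hT⟩ := Module.Finite.fg_top (R := B) (M := Omega A B)
  choose s hs hsm using hM
  let S := ∏ χ ∈ T, s χ
  have hS : S ∉ q := fun hmem => by
    obtain ⟨χ, -, hχ⟩ := Ideal.IsPrime.prod_mem_iff.1 hmem
    exact hs χ hχ
  let L : M →ₗ[B] M := LinearMap.lsmul B M S
  have hL : LinearMap.range L ≤ q • (⊤ : Submodule B M) := by
    rintro _ ⟨m, rfl⟩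
    obtain ⟨χ, rfl⟩ := Submodule.Quotient.mk_surjective _ m
    have hχ : χ ∈ Submodule.span B (T : Set (Omega A B)) := hT.ge trivial
    refine Submodule.span_induction (p := fun χ _ => L (Submodule.Quotient.mk χ) ∈ q • (⊤ : Submodule B M))
      (fun χ hχ => ?_) ?_ (fun x y _ _ hx hy => ?_) (fun a x _ hx => ?_) hχ
    · show S • (Submodule.Quotient.mk χ : M) ∈ _
      rw [show S = (∏ x ∈ T.erase χ, s x) * s χ from (Finset.prod_erase_mul T s hχ).symm, mul_smul]
      exact Submodule.smul_mem _ _ (hsm χ)
    · rw [Submodule.Quotient.mk_zero, map_zero]; exact zero_mem _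
    · rw [Submodule.Quotient.mk_add, map_add]; exact add_mem hx hy
    · rw [Submodule.Quotient.mk_smul, map_smul]; exact Submodule.smul_mem _ _ hx
  obtain ⟨P, hmonic, -, hcoeff, hP⟩ :=
    LinearMap.exists_monic_and_natDegree_eq_and_coeff_mem_pow_and_aeval_eq_zero B L q hL
  refine ⟨P.eval S, fun hmem => hS ?_, fun χ => ?_⟩
  · have h1 : S ^ P.natDegree ∈ q := by
      have e := P.eval_eq_sum_range S
      rw [Finset.sum_range_succ, hmonic.coeff_natDegree, one_mul] at e
      rw [e] at hmem
      refine (q.add_mem_iff_right (Submodule.sum_mem _ fun k hk => Ideal.mul_mem_right _ _ ?_)).1 hmem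
      exact Ideal.pow_le_self (Nat.sub_ne_zero_of_lt (Finset.mem_range.1 hk)) (hcoeff k)
    exact Ideal.IsPrime.mem_of_pow_mem inferInstance _ h1
  · have h1 : Polynomial.aeval L P = LinearMap.lsmul B M (P.eval S) := by
      rw [show L = algebraMap B (Module.End B M) S from rfl, Polynomial.aeval_algebraMap_apply,
        Polynomial.aeval_def, Algebra.algebraMap_self, Polynomial.eval₂_id]
      rfl
    have h2 := LinearMap.congr_fun (h1.symm.trans hP) (Submodule.Quotient.mk χ)
    rw [LinearMap.lsmul_apply, LinearMap.zero_apply, ← Submodule.Quotient.mk_smul,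
      Submodule.Quotient.mk_eq_zero, Submodule.mem_span_singleton] at h2
    obtain ⟨b, hb⟩ := h2
    exact ⟨b, hb.symm⟩

/-- The fibre local ring at `q` is Gorenstein iff some functional generates near `q`. -/
theorem gorenstein_fibre_iff (q : Ideal B) [q.IsPrime] :
    LocCoh.IsGorensteinLocalRing (EGA4.FibLocRing A B q) ↔ ∃ φ : Omega A B, Generates q φ := by
  have key : ∀ (p : Ideal A) [p.IsPrime], q.comap (algebraMap A B) = p →
      (LocCoh.IsGorensteinLocalRing (Localization.AtPrime q ⧸ p.map (algebraMap A (Localization.AtPrime q))) ↔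
        ∃ φ : Omega A B, Generates q φ) := by
    intro p _ hp
    obtain ⟨Q, hQp, hQ⟩ := CMFlat.exists_prime_fiber q p hp
    haveI := hQp
    subst hQ
    haveI : (Q.comap (includeRight : B →ₐ[A] p.Fiber B)).LiesOver p := ⟨hp.symm⟩
    letI := Localization.AtPrime.algebraOfLiesOver p (Q.comap (includeRight : B →ₐ[A] p.Fiber B))
    haveI : IsArtinianRing (p.Fiber B) := IsArtinianRing.of_finite p.ResidueField _
    haveI : IsArtinianRing (Localization.AtPrime Q) := IsArtinianRing.localization_artinian Q.primeCompl _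
    rw [← Goren.gorenstein_equiv_iff (Ideal.Fiber.localizationAlgEquivQuotient _ Q).toRingEquiv,
      Goren.gorenstein_iff_socSimple _ ((ringKrullDimZero_iff_ringKrullDim_eq_zero).1 inferInstance)]
    exact ⟨generates_of_socSimple p Q, fun ⟨φ, h⟩ => socSimple_of_generates p Q φ h⟩
  exact key _ rfl

theorem isOpen_gorenstein_fibres :
    IsOpen {q : PrimeSpectrum B | LocCoh.IsGorensteinLocalRing (EGA4.FibLocRing A B q.asIdeal)} := by
  simp only [gorenstein_fibre_iff]
  exact isOpen_generates

end Groth.Agent.GorMor
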