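import Groth.Agent.GorMor.Etale
import Groth.Agent.GorMor.FiniteLocus
import Groth.Agent.CMChart.Locus
import Groth.Agent.LimDesc.FPCancel
import Mathlib.AlgebraicGeometry.ZariskisMainTheorem
import Mathlib.RingTheory.Flat.EquationalCriterion

/-!
# Openness of the Gorenstein locus of a flat morphism locally of finite presentation
-/

set_option autoImplicit false
set_option linter.style.haveILetI false
universe u

open CategoryTheory AlgebraicGeometry Limits

namespace Groth.Agent.GorMor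

variable {X Y : Scheme.{u}}

theorem gorenstein_quot_iff_of_equiv {L M L' M' : Type u} [CommRing L] [IsLocalRing L] [CommRing M] [CommRing L']
    [IsLocalRing L'] [CommRing M'] (ψ : L →+* M) (ψ' : L' →+* M') (eA : L ≃+* L') (eB : M ≃+* M')
    (hw : ∀ m, eB (ψ m) = ψ' (eA m)) :
    LocCoh.IsGorensteinLocalRing (M ⧸ (IsLocalRing.maximalIdeal L).map ψ) ↔
      LocCoh.IsGorensteinLocalRing (M' ⧸ (IsLocalRing.maximalIdeal L').map ψ') := by
  refine Goren.gorenstein_equiv_iff (Ideal.quotientEquiv _ _ eB ?_)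
  rw [Ideal.map_map, show (eB : M →+* M').comp ψ = ψ'.comp (eA : L →+* L') from RingHom.ext hw, ← Ideal.map_map]
  congr 1
  refine le_antisymm (fun x hx => ?_) (Ideal.map_le_iff_le_comap.2 fun l hl => ?_)
  · have h1 : eA.symm x ∈ IsLocalRing.maximalIdeal L := (IsLocalRing.mem_maximalIdeal _).2 fun hu =>
      (IsLocalRing.mem_maximalIdeal x).1 hx (by simpa using hu.map eA.toMulEquiv)
    exact eA.apply_symm_apply x ▸ Ideal.mem_map_of_mem (eA : L →+* L') h1
  · rw [Ideal.mem_comap, IsLocalRing.mem_maximalIdeal, mem_nonunits_iff]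
    intro hu
    exact (IsLocalRing.mem_maximalIdeal l).1 hl ((MulEquiv.isUnit_map eA.toMulEquiv).1 hu)

theorem gorenstein_quot_iff_of_localRingHom {A B : Type u} [CommRing A] [CommRing B] [Algebra A B]
    (q : Ideal B) [q.IsPrime] {L M : Type u} [CommRing L] [IsLocalRing L] [CommRing M] (ψ : L →+* M)
    (eA : L ≃+* Localization.AtPrime (q.comap (algebraMap A B))) (eB : M ≃+* Localization.AtPrime q)
    (hw : ∀ m, eB (ψ m) = Localization.localRingHom (q.comap (algebraMap A B)) q (algebraMap A B) rfl (eA m)) :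
    LocCoh.IsGorensteinLocalRing (M ⧸ (IsLocalRing.maximalIdeal L).map ψ) ↔
      LocCoh.IsGorensteinLocalRing (EGA4.FibLocRing A B q) := by
  refine (gorenstein_quot_iff_of_equiv ψ
    (Localization.localRingHom (q.comap (algebraMap A B)) q (algebraMap A B) rfl) eA eB hw).trans
    (Goren.gorenstein_equiv_iff (Ideal.quotEquivOfEq ?_))
  rw [← Localization.AtPrime.map_eq_maximalIdeal, Ideal.map_map]
  congr 1
  refine RingHom.ext fun a => ?_
  rw [RingHom.comp_apply, Localization.localRingHom_to_map]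
  exact (IsScalarTower.algebraMap_apply A B (Localization.AtPrime q) a).symm

theorem isGorensteinAt_SpecMap_iff {A B : Type u} [CommRing A] [CommRing B] [Algebra A B]
    (q : PrimeSpectrum B) [Module.Flat A B] :
    Dual3.IsGorensteinAt (Spec.map (CommRingCat.ofHom (algebraMap A B))) q ↔
      LocCoh.IsGorensteinLocalRing (EGA4.FibLocRing A B q.asIdeal) := by
  let φ : CommRingCat.of A ⟶ CommRingCat.of B := CommRingCat.ofHom (algebraMap A B)
  haveI : Flat (Spec.map φ) := Flat.SpecMap_iff.2 (RingHom.flat_algebraMap_iff.2 inferInstance)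
  obtain ⟨e⟩ := CMFlat.nonempty_fiberStalk_equiv (Spec.map φ) q
  let α := Scheme.arrowStalkMapSpecIso φ q
  exact (and_iff_right (Flat.stalkMap (Spec.map φ) q)).trans ((Goren.gorenstein_equiv_iff e).symm.trans
    (gorenstein_quot_iff_of_localRingHom q.asIdeal ((Spec.map φ).stalkMap q).hom
      (Arrow.leftFunc.mapIso α).commRingCatIsoToRingEquiv (Arrow.rightFunc.mapIso α).commRingCatIsoToRingEquiv
      (fun m => (congr($(α.hom.w).hom m)).symm)))

theorem isOpen_of_finite {Z T : Scheme.{u}} (h : Z ⟶ T) [IsFinite h] [Flat h] [LocallyOfFinitePresentation h] :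
    IsOpen {z : Z | Dual3.IsGorensteinAt h z} := by
  refine isOpen_iff_forall_mem_open.2 fun z hz => ?_
  obtain ⟨_, ⟨T₀, hT₀, rfl⟩, hzT, -⟩ :=
    T.isBasis_affineOpens.exists_subset_of_mem_open (Set.mem_univ (h z)) isOpen_univ
  have hA : IsAffineOpen T₀ := hT₀
  have hB : IsAffineOpen (h ⁻¹ᵁ T₀) := hA.preimage h
  let φ := h.appLE T₀ (h ⁻¹ᵁ T₀) le_rfl
  have hφ : φ = CommRingCat.ofHom φ.hom := rfl
  have hsq : hB.fromSpec ≫ h = Spec.map φ ≫ hA.fromSpec := (hA.SpecMap_appLE_fromSpec h hB le_rfl).symm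
  letI := φ.hom.toAlgebra
  haveI : Module.Finite Γ(T, T₀) Γ(Z, h ⁻¹ᵁ T₀) := RingHom.finite_algebraMap.1 (by
    rw [RingHom.algebraMap_toAlgebra]
    simp only [φ, Scheme.Hom.appLE_eq_app]
    exact h.finite_app T₀ hA)
  haveI : Algebra.FinitePresentation Γ(T, T₀) Γ(Z, h ⁻¹ᵁ T₀) := h.finitePresentation_appLE hA hB le_rfl
  have hflat : φ.hom.Flat := h.flat_appLE hA hB le_rfl
  haveI : Module.Flat Γ(T, T₀) Γ(Z, h ⁻¹ᵁ T₀) := hflat
  haveI := Module.FinitePresentation.of_finite_of_finitePresentation Γ(T, T₀) Γ(Z, h ⁻¹ᵁ T₀)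
  haveI : Module.Projective Γ(T, T₀) Γ(Z, h ⁻¹ᵁ T₀) := Module.Flat.projective_of_finitePresentation
  have hiff : ∀ q : PrimeSpectrum Γ(Z, h ⁻¹ᵁ T₀), Dual3.IsGorensteinAt h (hB.fromSpec q) ↔
      LocCoh.IsGorensteinLocalRing (EGA4.FibLocRing Γ(T, T₀) Γ(Z, h ⁻¹ᵁ T₀) q.asIdeal) := fun q =>
    (isGorensteinAt_iff_of_etale hsq q).trans (isGorensteinAt_SpecMap_iff (A := Γ(T, T₀)) (B := Γ(Z, h ⁻¹ᵁ T₀)) q)
  refine ⟨hB.fromSpec '' {q | LocCoh.IsGorensteinLocalRing (EGA4.FibLocRing Γ(T, T₀) Γ(Z, h ⁻¹ᵁ T₀) q.asIdeal)},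
    ?_, hB.fromSpec.isOpenEmbedding.isOpenMap _ isOpen_gorenstein_fibres, hB.primeIdealOf ⟨z, hzT⟩, ?_,
    hB.fromSpec_primeIdealOf ⟨z, hzT⟩⟩
  · rintro _ ⟨q, hq, rfl⟩
    exact (hiff q).2 hq
  · refine (hiff _).1 ?_
    rwa [hB.fromSpec_primeIdealOf ⟨z, hzT⟩]

theorem isOpen_of_lqf {Z : Scheme.{u}} (g : Z ⟶ Y) [LocallyQuasiFinite g] [Flat g] [LocallyOfFinitePresentation g] :
    IsOpen {z : Z | Dual3.IsGorensteinAt g z} := by
  refine isOpen_iff_forall_mem_open.2 fun z hz => ?_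
  obtain ⟨V₀, hV₀, hzV⟩ : ∃ V₀ : Y.Opens, IsAffineOpen V₀ ∧ g z ∈ V₀ := by
    obtain ⟨_, ⟨V₀, hV₀, rfl⟩, hzV, -⟩ :=
      Y.isBasis_affineOpens.exists_subset_of_mem_open (Set.mem_univ (g z)) isOpen_univ
    exact ⟨V₀, hV₀, hzV⟩
  obtain ⟨U, hU, hzU, hUV⟩ : ∃ U : Z.Opens, IsAffineOpen U ∧ z ∈ U ∧ U ≤ g ⁻¹ᵁ V₀ := by
    obtain ⟨_, ⟨U, hU, rfl⟩, hzU, hUV⟩ :=
      Z.isBasis_affineOpens.exists_subset_of_mem_open hzV (g ⁻¹ᵁ V₀).2
    exact ⟨U, hU, hzU, hUV⟩
  haveI : IsAffine U := hU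
  haveI : IsAffine V₀ := hV₀
  let g₀ := g.resLE V₀ U hUV
  have hw : g₀ ≫ V₀.ι = U.ι ≫ g := Scheme.Hom.resLE_comp_ι _ _
  haveI : LocallyOfFinitePresentation g₀ := by
    haveI : LocallyOfFinitePresentation (g₀ ≫ V₀.ι) := by rw [hw]; infer_instance
    haveI : LocallyOfFiniteType V₀.ι := inferInstance
    exact LimDesc.lfp_of_comp g₀ V₀.ι
  haveI : LocallyQuasiFinite g₀ := by
    haveI : LocallyQuasiFinite (g₀ ≫ V₀.ι) := by rw [hw]; infer_instance
    exact LocallyQuasiFinite.of_comp g₀ V₀.ι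
  haveI : Flat g₀ := Flat.of_stalkMap g₀ fun u => FibreFlat.flatAt_cancel_etale (g := V₀.ι) (by
    show FibreFlat.FlatAt (g₀ ≫ V₀.ι) u
    rw [hw]
    exact FibreFlat.flatAt_comp (Flat.stalkMap U.ι u) (Flat.stalkMap g _))
  haveI : IsSeparated g₀ := inferInstance
  obtain ⟨T, t, _, -, V, W, v, -, _, hv⟩ :=
    exists_etale_isCompl_of_quasiFiniteAt g₀ (x := (⟨z, hzU⟩ : U)) rfl (g₀.quasiFiniteAt _)
  let h := V.ι ≫ pullback.snd g₀ t
  haveI : Flat h := by
    haveI : Flat (pullback.snd g₀ t) := MorphismProperty.pullback_snd (P := @Flat) _ _ inferInstance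
    exact inferInstanceAs (Flat (V.ι ≫ pullback.snd g₀ t))
  haveI : LocallyOfFinitePresentation h := by
    haveI : LocallyOfFinitePresentation (pullback.snd g₀ t) :=
      MorphismProperty.pullback_snd (P := @LocallyOfFinitePresentation) _ _ inferInstance
    exact inferInstanceAs (LocallyOfFinitePresentation (V.ι ≫ pullback.snd g₀ t))
  haveI : IsFinite h := ‹_›
  let k := (V.ι ≫ pullback.fst g₀ t) ≫ U.ι
  haveI : Etale (pullback.fst g₀ t) := MorphismProperty.pullback_fst (P := @Etale) _ _ inferInstance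
  haveI : Etale k := inferInstanceAs (Etale ((V.ι ≫ pullback.fst g₀ t) ≫ U.ι))
  have hsq : k ≫ g = h ≫ (t ≫ V₀.ι) := by
    simp only [k, h, Category.assoc]
    rw [← hw, pullback.condition_assoc]
  have hiff : ∀ a, Dual3.IsGorensteinAt g (k a) ↔ Dual3.IsGorensteinAt h a := isGorensteinAt_iff_of_etale hsq
  have hkv : k v = z := by
    simp only [k, Scheme.Hom.comp_apply]
    exact congrArg U.ι hv
  refine ⟨k '' {a | Dual3.IsGorensteinAt h a}, ?_, k.isOpenMap _ (isOpen_of_finite h), v, ?_, hkv⟩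
  · rintro _ ⟨a, ha, rfl⟩
    exact (hiff a).2 ha
  · exact (hiff v).1 (by rwa [hkv])

theorem isGorensteinAt_affineSpace (σ : Type u) [Finite σ] (w : AffineSpace σ Y) :
    Dual3.IsGorensteinAt (AffineSpace σ Y ↘ Y) w := by
  haveI := CMChart.flat_affineSpace (Y := Y) σ
  haveI := CMChart.isRegularLocalRing_fiber_stalk σ _ ((AffineSpace σ Y ↘ Y).asFiber w)
  exact ⟨Flat.stalkMap _ w, Goren.isGorenstein_of_regular _⟩

/-- Gorenstein at a point through a quasi-finite chart which is flat there. -/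
theorem isGorensteinAt_iff_chart (f : X ⟶ Y) [LocallyOfFiniteType f] {d : ℕ} {U : X.Opens} {x : X} (hx : x ∈ U)
    (g : (U : Scheme.{u}) ⟶ AffineSpace (ULift.{u} (Fin d)) Y)
    (hg : g ≫ (AffineSpace (ULift.{u} (Fin d)) Y ↘ Y) = U.ι ≫ f) (hflat : (g.stalkMap ⟨x, hx⟩).hom.Flat) :
    Dual3.IsGorensteinAt f x ↔ Dual3.IsGorensteinAt g ⟨x, hx⟩ := by
  let π := AffineSpace (ULift.{u} (Fin d)) Y ↘ Y
  have h1 : Dual3.IsGorensteinAt (g ≫ π) ⟨x, hx⟩ ↔ Dual3.IsGorensteinAt f x := by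
    rw [hg]; exact isGorensteinAt_precomp_iff U.ι f ⟨x, hx⟩
  rw [← h1]
  refine ⟨fun H => (isGorensteinAt_of_comp H hflat).1, fun H => ?_⟩
  haveI : LocallyOfFiniteType (g ≫ π) := by rw [hg]; infer_instance
  exact isGorensteinAt_comp (isLocallyNoetherian_fiber_of_lft (g ≫ π) _) H (isGorensteinAt_affineSpace _ _)

theorem isCMAt_of_isGorensteinAt {f : X ⟶ Y} {x : X} (h : Dual3.IsGorensteinAt f x) : MoreMor.IsCMAt f x :=
  haveI := h.2
  ⟨h.1, Goren.isCohenMacaulay _⟩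

/-- The Gorenstein locus of a morphism locally of finite presentation is open. -/
theorem isOpen_isGorensteinAt (f : X ⟶ Y) [LocallyOfFinitePresentation f] :
    IsOpen {x : X | Dual3.IsGorensteinAt f x} := by
  refine isOpen_iff_forall_mem_open.2 fun x hx => ?_
  obtain ⟨e, U₀, g₀, hx₀, hg₀, hqf, hfl₀, -⟩ := CMChart.exists_cm_nhd f (isCMAt_of_isGorensteinAt hx)
  obtain ⟨U, g, hxU, hg, _, _, _⟩ := CMChart.exists_flat_chart_of_flatAt f hx₀ g₀ hg₀ (Flat.stalkMap g₀ _)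
  refine ⟨U.ι '' {u | Dual3.IsGorensteinAt g u}, ?_, U.ι.isOpenEmbedding.isOpenMap _ (isOpen_of_lqf g),
    ⟨x, hxU⟩, (isGorensteinAt_iff_chart f hxU g hg (Flat.stalkMap g _)).1 hx, rfl⟩
  rintro _ ⟨⟨a, ha⟩, hu, rfl⟩
  exact (isGorensteinAt_iff_chart f ha g hg (Flat.stalkMap g _)).2 hu

theorem isOpen_forall_fibre_gorenstein (f : X ⟶ Y) [UniversallyClosed f] [Flat f] [LocallyOfFinitePresentation f] :
    IsOpen {y : Y | ∀ z : ↥(f.fiber y), LocCoh.IsGorensteinLocalRing ((f.fiber y).presheaf.stalk z)} := by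
  have : {y : Y | ∀ z : ↥(f.fiber y), LocCoh.IsGorensteinLocalRing ((f.fiber y).presheaf.stalk z)} =
      (f '' {x : X | Dual3.IsGorensteinAt f x}ᶜ)ᶜ := by
    ext y
    simp only [Set.mem_setOf_eq, Set.mem_compl_iff, Set.mem_image, not_exists, not_and]
    refine ⟨fun h x hx hxy => hx ?_, fun h z => ?_⟩
    · subst hxy
      exact ⟨Flat.stalkMap f x, h _⟩
    · obtain ⟨eq⟩ := CMFlat.nonempty_stalk_equiv_asFiber f (f.fiberι y z) z rfl
      refine gor_equiv eq.symm ?_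
      by_contra hn
      refine h (f.fiberι y z) (fun hG => hn hG.2) ?_
      have := Set.mem_range_self (f := f.fiberι y) z
      rw [Scheme.Hom.range_fiberι] at this
      exact this
  rw [this]
  exact (f.isClosedMap _ (isOpen_isGorensteinAt f).isClosed_compl).isOpen_compl

end Groth.Agent.GorMor
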