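import Groth.Agent.GorMor.BaseChange
import Groth.Agent.Goren.LCI

/-!
# Gorenstein schemes and morphisms
-/

set_option autoImplicit false
set_option linter.style.haveILetI false
universe u

open CategoryTheory AlgebraicGeometry Limits

namespace Groth.Agent.GorMor

variable {X Y : Scheme.{u}}

theorem isGorensteinRing_of_isAffineOpen (hX : Dual3.IsGorenstein X) (U : X.affineOpens) :
    LocCoh.IsGorensteinRing Γ(X, U.1) := by
  haveI := hX.1
  haveI : IsNoetherianRing Γ(X, U.1) := IsLocallyNoetherian.component_noetherian U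
  refine { isGorensteinLocalRing_localization := fun P _ => ?_ }
  let p : PrimeSpectrum Γ(X, U.1) := ⟨P, inferInstance⟩
  letI := X.presheaf.algebra_section_stalk ⟨U.2.fromSpec p, (U.2.range_fromSpec.le ⟨p, rfl⟩ : U.2.fromSpec p ∈ U.1)⟩
  haveI : IsLocalization P.primeCompl (X.presheaf.stalk (U.2.fromSpec p)) :=
    U.2.isLocalization_stalk' p (U.2.range_fromSpec.le ⟨p, rfl⟩)
  exact gor_equiv (IsLocalization.algEquiv P.primeCompl (X.presheaf.stalk (U.2.fromSpec p))
    (Localization.AtPrime P)).toRingEquiv (hX.2 _)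

theorem gorenstein_stalk_of_ring (U : X.affineOpens) (h : LocCoh.IsGorensteinRing Γ(X, U.1)) {x : X} (hx : x ∈ U.1) :
    LocCoh.IsGorensteinLocalRing (X.presheaf.stalk x) := by
  letI := X.presheaf.algebra_section_stalk (⟨x, hx⟩ : U.1)
  haveI : IsLocalization.AtPrime (X.presheaf.stalk x) (U.2.primeIdealOf ⟨x, hx⟩).asIdeal :=
    U.2.isLocalization_stalk ⟨x, hx⟩
  exact gor_equiv (IsLocalization.algEquiv (U.2.primeIdealOf ⟨x, hx⟩).asIdeal.primeCompl
    (Localization.AtPrime (U.2.primeIdealOf ⟨x, hx⟩).asIdeal) (X.presheaf.stalk x)).toRingEquiv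
      (h.isGorensteinLocalRing_localization _)

theorem isGorenstein_of_lci (f : Y ⟶ X) (hf : Dual3.IsLCIMor f) (hX : Dual3.IsGorenstein X) :
    Dual3.IsGorenstein Y := by
  choose U V e hy h using hf
  have hG : ∀ y, LocCoh.IsGorensteinRing Γ(Y, (U y).1) := fun y => by
    letI := (f.appLE (V y).1 (U y).1 (e y)).hom.toAlgebra
    exact Goren.isGorensteinRing_of_lci Γ(X, (V y).1) Γ(Y, (U y).1) (isGorensteinRing_of_isAffineOpen hX (V y)) (h y)
  refine ⟨?_, fun y => gorenstein_stalk_of_ring (U y) (hG y) (hy y)⟩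
  exact isLocallyNoetherian_of_affine_cover (S := U)
    (eq_top_iff.2 fun y _ => TopologicalSpace.Opens.mem_iSup.2 ⟨y, hy y⟩) (fun y => (hG y).toIsNoetherian)

theorem gorensteinMor_of_flat (f : X ⟶ Y) [IsLocallyNoetherian Y] [Flat f] (hX : Dual3.IsGorenstein X) :
    Dual3.IsGorensteinMor f ∧ ∀ x : X, LocCoh.IsGorensteinLocalRing (Y.presheaf.stalk (f x)) := by
  haveI := hX.1
  exact ⟨fun x => ⟨Flat.stalkMap f x, ((isGorenstein_stalk_iff f x (Flat.stalkMap f x)).1 (hX.2 x)).2⟩,
    fun x => ((isGorenstein_stalk_iff f x (Flat.stalkMap f x)).1 (hX.2 x)).1⟩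

theorem isLocallyNoetherian_fiber_of_lft (f : X ⟶ Y) [LocallyOfFiniteType f] (y : Y) :
    IsLocallyNoetherian (f.fiber y) := by
  haveI : LocallyOfFiniteType (f.fiberToSpecResidueField y) :=
    MorphismProperty.of_isPullback (P := @LocallyOfFiniteType) (ConsEngine.isPullback_fiber f y) ‹_›
  exact LocallyOfFiniteType.isLocallyNoetherian (f.fiberToSpecResidueField y)

theorem isGorensteinAt_iff_baseChange {X' Y' : Scheme.{u}} {f : X ⟶ Y} [Flat f] [LocallyOfFiniteType f]
    {g : Y' ⟶ Y} {f' : X' ⟶ Y'} {g' : X' ⟶ X} (hsq : IsPullback g' f' f g) (x' : X') :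
    Dual3.IsGorensteinAt f' x' ↔ Dual3.IsGorensteinAt f (g' x') :=
  haveI := isLocallyNoetherian_fiber_of_lft f (g (f' x'))
  ⟨isGorensteinAt_of_baseChange hsq x' (.inr ‹_›) (Flat.stalkMap f _), isGorensteinAt_baseChange hsq x' (.inr ‹_›)⟩

theorem isGorensteinAt_baseChange_all {X' Y' : Scheme.{u}} {f : X ⟶ Y} {g : Y' ⟶ Y} {f' : X' ⟶ Y'} {g' : X' ⟶ X}
    (hsq : IsPullback g' f' f g) [LocallyOfFiniteType g] (x' : X') [IsLocallyNoetherian (f.fiber (g (f' x')))] :
    (Dual3.IsGorensteinAt f (g' x') → Dual3.IsGorensteinAt f' x') ∧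
      ((f.stalkMap (g' x')).hom.Flat → Dual3.IsGorensteinAt f' x' → Dual3.IsGorensteinAt f (g' x')) ∧
      ((g.stalkMap (f' x')).hom.Flat → Dual3.IsGorensteinAt f' x' → Dual3.IsGorensteinAt f (g' x')) :=
  ⟨isGorensteinAt_baseChange hsq x' (.inl ‹_›), isGorensteinAt_of_baseChange hsq x' (.inl ‹_›),
    fun hg h => isGorensteinAt_of_baseChange hsq x' (.inl ‹_›) (CMFlat.flatAt_of_flatAt_baseChange hsq x' hg h.1) h⟩

/-- For a scheme over a field, Gorenstein at a point means Gorenstein local ring. -/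
theorem gorenstein_stalk_of_mor {k : Type u} [Field k] (q : X ⟶ Spec (CommRingCat.of k)) [IsLocallyNoetherian X]
    (x : X) (h : Dual3.IsGorensteinAt q x) : LocCoh.IsGorensteinLocalRing (X.presheaf.stalk x) := by
  refine (isGorenstein_stalk_iff q x h.1).2 ⟨?_, h.2⟩
  let s : PrimeSpectrum k := q x
  haveI : LocCoh.IsGorensteinRing k := Goren.isGorensteinRing_of_regular k inferInstance
  exact gor_equiv (Spec.stalkIso (R := CommRingCat.of k) (q x)).commRingCatIsoToRingEquiv.symm
    (LocCoh.IsGorensteinRing.isGorensteinLocalRing_localization s.asIdeal)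

theorem isLocallyNoetherian_fiber_of_closed (q : X ⟶ Y) [IsLocallyNoetherian X] (y : Y) (hy : IsClosed ({y} : Set Y)) :
    IsLocallyNoetherian (q.fiber y) := by
  haveI : IsClosedImmersion (q.fiberι y) := by
    refine .of_isPreimmersion _ ?_
    rw [Scheme.Hom.range_fiberι]
    exact hy.preimage q.continuous
  exact LocallyOfFiniteType.isLocallyNoetherian (q.fiberι y)

/-- A flat deformation of a Gorenstein scheme over an Artinian local base is a Gorenstein morphism. -/
theorem gorensteinMor_of_closedFibre {A : Type u} [CommRing A] [IsArtinianRing A] [IsLocalRing A]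
    {P X : Scheme.{u}} (f : P ⟶ Spec (CommRingCat.of A)) [Flat f]
    (i : X ⟶ P) (q : X ⟶ Spec (CommRingCat.of (IsLocalRing.ResidueField A)))
    (hsq : IsPullback i q f (Spec.map (CommRingCat.ofHom (IsLocalRing.residue A))))
    (hX : Dual3.IsGorenstein X) : Dual3.IsGorensteinMor f := by
  let g := Spec.map (CommRingCat.ofHom (IsLocalRing.residue A))
  haveI : IsClosedImmersion g := IsClosedImmersion.spec_of_surjective _ IsLocalRing.residue_surjective
  haveI := hX.1
  haveI : Flat q := MorphismProperty.of_isPullback (P := @Flat) hsq ‹_›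
  intro x
  have hsing : ∀ a b : ↥(Spec (CommRingCat.of A)), a = b := fun a b =>
    haveI : Subsingleton (PrimeSpectrum A) := ⟨fun a b => PrimeSpectrum.ext
      ((IsLocalRing.eq_maximalIdeal (IsArtinianRing.isMaximal_of_isPrime a.asIdeal)).trans
        (IsLocalRing.eq_maximalIdeal (IsArtinianRing.isMaximal_of_isPrime b.asIdeal)).symm)⟩
    Subsingleton.elim (α := PrimeSpectrum A) a b
  obtain ⟨z, rfl, -⟩ := Scheme.exists_preimage_of_isPullback hsq x (IsLocalRing.closedPoint (IsLocalRing.ResidueField A))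
    (hsing _ _)
  let y' := q z
  haveI : IsLocallyNoetherian (f.fiber (g y')) := by
    haveI : IsLocallyNoetherian (q.fiber y') :=
      isLocallyNoetherian_fiber_of_closed q y' (isClosed_singleton)
    let k := (Spec (CommRingCat.of A)).residueField (g y')
    let k' := (Spec (CommRingCat.of (IsLocalRing.ResidueField A))).residueField y'
    letI : Algebra k k' := (g.residueFieldMap y').hom.toAlgebra
    letI : (f.fiber (g y')).Over (Spec (CommRingCat.of k)) := ⟨f.fiberToSpecResidueField (g y')⟩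
    let e := (ConsEngine.isPullback_fiberBC hsq y').isoPullback
    haveI : IsLocallyNoetherian (Curv2.bc k (f.fiber (g y')) k') :=
      @isLocallyNoetherian_of_isOpenImmersion _ _ e.inv inferInstance ‹IsLocallyNoetherian (q.fiber y')›
    exact CMFlat.isLocallyNoetherian_of_bc k (f.fiber (g y')) k'
  exact isGorensteinAt_of_baseChange hsq z (.inl inferInstance) (Flat.stalkMap f _)
    ((gorensteinMor_of_flat q hX).1 z)

end Groth.Agent.GorMor
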