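import Groth.Agent.GorMor.AlgSp

/-!
# Gorenstein morphisms of algebraic spaces through fibres
-/

set_option autoImplicit false
set_option linter.style.haveILetI false
set_option backward.isDefEq.respectTransparency false

universe u

open CategoryTheory CategoryTheory.Limits AlgebraicGeometry AlgSp Opposite
open Groth.Agent.AlgSpLib

namespace Groth.Agent.GorMor

variable {S : Scheme.{u}}

theorem gorenstein_stalk_iff_of_etale {A B : Scheme.{u}} (k : A ⟶ B) [Etale k] [IsLocallyNoetherian B] (x : A) :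
    LocCoh.IsGorensteinLocalRing (A.presheaf.stalk x) ↔ LocCoh.IsGorensteinLocalRing (B.presheaf.stalk (k x)) := by
  haveI : IsLocallyNoetherian A := LocallyOfFiniteType.isLocallyNoetherian k
  rw [isGorenstein_stalk_iff k x (Flat.stalkMap k x)]
  exact and_iff_left (isGorensteinAt_of_etale k x).2

theorem gorenstein_tfae {X Y : Sp S} (hX : IsAlgSpace X) (hY : IsAlgSpace Y) {f : X ⟶ Y}
    (hf : ∀ (k : FieldPt Y) (Xk : Sp S) (a : Xk ⟶ X) (b : Xk ⟶ (yon S).obj k.pt),
      IsPullback a b f k.toHom → IsLocNoethSp Xk) :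
    [∀ x : Points X, LocPAt (fun h u => Dual3.IsGorensteinAt h u) f x,
      LocP @Flat f ∧ ∃ (V : Over S) (b : (yon S).obj V ⟶ Y),
        RepWith @Etale b ∧ RepWith @Surjective b ∧
          ∀ (v : ↥V.left) (Xv : Sp S) (a : Xv ⟶ X)
            (c : Xv ⟶ (yon S).obj (Over.mk (V.left.fromSpecResidueField v ≫ V.hom))),
            IsPullback a c f ((yon S).map (Over.homMk (V.left.fromSpecResidueField v) rfl :
              Over.mk (V.left.fromSpecResidueField v ≫ V.hom) ⟶ V) ≫ b) →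
            EtaleLocally Dual3.IsGorenstein Xv,
      LocP @Flat f ∧ ∀ (V : Over S) (b : (yon S).obj V ⟶ Y), RepWith @Etale b →
          ∀ (v : ↥V.left) (Xv : Sp S) (a : Xv ⟶ X)
            (c : Xv ⟶ (yon S).obj (Over.mk (V.left.fromSpecResidueField v ≫ V.hom))),
            IsPullback a c f ((yon S).map (Over.homMk (V.left.fromSpecResidueField v) rfl :
              Over.mk (V.left.fromSpecResidueField v ≫ V.hom) ⟶ V) ≫ b) →
            EtaleLocally Dual3.IsGorenstein Xv].TFAE := by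
  obtain ⟨U₀, a₀, ha₀e, ha₀s⟩ := hX.atlas
  -- the chart of a fibre
  have key : ∀ (V : Over S) (b : (yon S).obj V ⟶ Y), RepWith @Etale b →
      ∃ (U : Over S) (a₁ : (yon S).obj U ⟶ X) (kU : U ⟶ V), RepWith @Etale a₁ ∧
        a₁ ≫ f = (yon S).map kU ≫ b ∧
        (∀ (x : Points X) (v : ↥V.left), Points.ofPt b v = Points.map f x →
          ∃ u, Points.ofPt a₁ u = x ∧ kU.left u = v) ∧
        ∀ (v : ↥V.left) (Xv : Sp S) (a : Xv ⟶ X)
          (c : Xv ⟶ (yon S).obj (Over.mk (V.left.fromSpecResidueField v ≫ V.hom))),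
          IsPullback a c f ((yon S).map (Over.homMk (V.left.fromSpecResidueField v) rfl :
            Over.mk (V.left.fromSpecResidueField v ≫ V.hom) ⟶ V) ≫ b) →
          ∃ (F : Over S) (m : (yon S).obj F ⟶ Xv), RepWith @Etale m ∧ RepWith @Surjective m ∧
            ∃ e : F.left ⟶ kU.left.fiber v, IsIso e := by
    intro V b hbe
    obtain ⟨U, u₀, kU, sqU⟩ := exists_pullback hY.diag (a₀ ≫ f) b
    refine ⟨U, (yon S).map u₀ ≫ a₀, kU, repWith_comp (repWith_baseChange sqU.flip hbe) ha₀e,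
      by rw [Category.assoc]; exact sqU.w, fun x v hv => ?_, fun v Xv a c sqX => ?_⟩
    · obtain ⟨u₁, rfl⟩ := ofPt_surjective ha₀s x
      rw [Points.map_ofPt] at hv
      obtain ⟨u, hu1, hu2⟩ := (ofPt_eq_iff sqU u₁ v).1 hv.symm
      exact ⟨u, by rw [ofPt_comp, hu1], hu2⟩
    let T : Over S := Over.mk (V.left.fromSpecResidueField v ≫ V.hom)
    let ι : T ⟶ V := Over.homMk (V.left.fromSpecResidueField v) rfl
    obtain ⟨F, w, kF, sqF⟩ := exists_pullback hY.diag (a₀ ≫ f) (𝟙 _ ≫ (yon S).map ι ≫ b)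
    obtain ⟨w', hw'⟩ := exists_map_eq (sqU.lift ((yon S).map w) ((yon S).map kF ≫ (yon S).map ι)
      (by rw [sqF.w, Category.id_comp, Category.assoc]))
    have hw1 : w' ≫ u₀ = w := (yon S).map_injective (by rw [Functor.map_comp, hw', sqU.lift_fst])
    have hw2 : w' ≫ kU = kF ≫ ι := (yon S).map_injective (by
      rw [Functor.map_comp, hw', sqU.lift_snd, Functor.map_comp])
    have sqS : IsPullback w'.left kF.left kU.left ι.left := by
      refine isPullback_yon_iff.1 (IsPullback.of_right (h₁₂ := (yon S).map u₀) (v₁₃ := a₀ ≫ f) (h₂₂ := b) ?_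
        (by rw [← Functor.map_comp, hw2, Functor.map_comp]) sqU)
      rw [← Functor.map_comp, hw1]
      rwa [Category.id_comp] at sqF
    exact ⟨F, _, FibreFlat.chart_baseChange @Etale sqX sqF ha₀e (repWith_id _ _),
      FibreFlat.chart_baseChange @Surjective sqX sqF ha₀s (repWith_id _ _), sqS.isoPullback.hom, inferInstance⟩
  tfae_have 1 → 3 := fun H => by
    refine ⟨fun U V a b h ha hb comm => Flat.of_stalkMap h.left fun u => (H _ a b h u ha hb comm rfl).1,
      fun V b hb v Xv a c sqX => ?_⟩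
    obtain ⟨U, a₁, kU, ha₁, comm, -, hfib⟩ := key V b hb
    obtain ⟨F, m, hme, hms, e, _⟩ := hfib v Xv a c sqX
    have hG : Dual3.IsGorenstein (kU.left.fiber v) := by
      refine ⟨isLocallyNoetherian_fiber_chart hX hY hf ha₁ comm v, fun z => ?_⟩
      obtain ⟨eq⟩ := CMFlat.nonempty_stalk_equiv_asFiber kU.left (kU.left.fiberι v z) z rfl
      exact gor_equiv eq.symm ((locPAt_gorenstein_iff_chart hX hY ha₁ hb comm _).1 (H _)).2
    exact ⟨F, m, hme, hms, isGorenstein_of_etale e hG⟩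
  tfae_have 3 → 2 := fun H => by
    obtain ⟨V, b, hbe, hbs⟩ := hY.atlas
    exact ⟨H.1, V, b, hbe, hbs, H.2 V b hbe⟩
  tfae_have 2 → 1 := fun ⟨hfl, V, b, hbe, hbs, H⟩ x => by
    obtain ⟨U, a₁, kU, ha₁, comm, hlift, hfib⟩ := key V b hbe
    obtain ⟨v, hv⟩ := ofPt_surjective hbs (Points.map f x)
    obtain ⟨u, rfl, rfl⟩ := hlift x v hv
    have : Flat kU.left := hfl a₁ b kU ha₁ hbe comm
    refine (locPAt_gorenstein_iff_chart hX hY ha₁ hbe comm u).2 ⟨Flat.stalkMap _ u, ?_⟩
    let T : Over S := Over.mk (V.left.fromSpecResidueField (kU.left u) ≫ V.hom)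
    have sqX := IsPullback.of_hasPullback f
      ((yon S).map (Over.homMk (V.left.fromSpecResidueField (kU.left u)) rfl : T ⟶ V) ≫ b)
    have hXv := isAlgSpace_of_isPullback_space hY hX (IsAlgSpace.yon_obj T) sqX
    obtain ⟨F, m, hme, hms, e, _⟩ := hfib _ _ _ _ sqX
    obtain ⟨W, q, hqe, hqs, hW⟩ := H _ _ _ _ sqX
    obtain ⟨Z, z₁, z₂, sqZ⟩ := exists_pullback hXv.diag m q
    have : Etale z₁.left := (repWith_yon_iff _).1 (repWith_baseChange sqZ.flip hqe)
    have : Surjective z₁.left := (repWith_yon_iff _).1 (repWith_baseChange sqZ.flip hqs)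
    have : Etale z₂.left := (repWith_yon_iff _).1 (repWith_baseChange sqZ hme)
    have hZ := isGorenstein_of_etale z₂.left hW
    haveI := isLocallyNoetherian_fiber_chart hX hY hf ha₁ comm (kU.left u)
    obtain ⟨y, hy⟩ := (z₁.left ≫ e).surjective (kU.left.asFiber u)
    exact hy ▸ (gorenstein_stalk_iff_of_etale (z₁.left ≫ e) y).1 (hZ.2 y)
  tfae_finish

end Groth.Agent.GorMor
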