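import Groth.Agent.GorMor.AlgSp
import Groth.Agent.GorMor.Locus

/-!
# The Gorenstein locus of a morphism of algebraic spaces
-/

set_option autoImplicit false
set_option linter.style.haveILetI false
set_option backward.isDefEq.respectTransparency false

universe u

open CategoryTheory CategoryTheory.Limits AlgebraicGeometry AlgSp Opposite
open Groth.Agent.AlgSpLib

namespace Groth.Agent.GorMor

variable {S : Scheme.{u}}

theorem isOpen_locPAt_gorenstein {X Y : Sp S} (hX : IsAlgSpace X) (hY : IsAlgSpace Y) {f : X ⟶ Y}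
    (hfp : LocP @LocallyOfFinitePresentation f) :
    IsOpen {x : Points X | LocPAt (fun h u => Dual3.IsGorensteinAt h u) f x} := by
  obtain ⟨V, c, hce, hcs⟩ := hY.atlas
  obtain ⟨U, a, h, hae, has, hh⟩ := exists_chart_lift hX hY f hce hcs
  haveI : LocallyOfFinitePresentation h.left := hfp a c h hae hce hh
  have : {x : Points X | LocPAt (fun h u => Dual3.IsGorensteinAt h u) f x} =
      Points.ofPt a '' {u | Dual3.IsGorensteinAt h.left u} := by
    ext x
    obtain ⟨u, rfl⟩ := ofPt_surjective has x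
    refine ⟨fun hu => ⟨u, (locPAt_gorenstein_iff_chart hX hY hae hce hh u).1 hu, rfl⟩, ?_⟩
    rintro ⟨u', hu', e⟩
    rw [← e]
    exact (locPAt_gorenstein_iff_chart hX hY hae hce hh u').2 hu'
  rw [this]
  exact isOpenMap_ofPt (repWith_universallyOpen_of_etale hae) _ (isOpen_isGorensteinAt h.left)

/-- The Gorenstein locus commutes with base change. -/
theorem locPAt_gorenstein_iff_baseChange {X Y X' Y' : Sp S} (hX : IsAlgSpace X) (hY : IsAlgSpace Y)
    (hX' : IsAlgSpace X') (hY' : IsAlgSpace Y') {f : X ⟶ Y} {g : Y' ⟶ Y} {g' : X' ⟶ X} {f' : X' ⟶ Y'}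
    (hsq : IsPullback g' f' f g) (hfl : LocP @Flat f) (hft : LocP @LocallyOfFinitePresentation f) (x' : Points X') :
    LocPAt (fun h u => Dual3.IsGorensteinAt h u) f' x' ↔
      LocPAt (fun h u => Dual3.IsGorensteinAt h u) f (Points.map g' x') := by
  obtain ⟨V, c, hce, hcs⟩ := hY.atlas
  obtain ⟨W', p, α, hpe, hps, hp⟩ := exists_chart_lift hY' hY g hce hcs
  obtain ⟨U₀, a₀, ha₀e, ha₀s⟩ := hX.atlas
  obtain ⟨U, u₀, kU, sqU⟩ := exists_pullback hY.diag (a₀ ≫ f) c
  obtain ⟨U'', w, kU'', sqU''⟩ := exists_pullback hY.diag (a₀ ≫ f) (p ≫ g)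
  obtain ⟨w', hw'⟩ := exists_map_eq (sqU.lift ((yon S).map w) ((yon S).map kU'' ≫ (yon S).map α)
    (by rw [sqU''.w, Category.assoc, hp]))
  have hw1 : w' ≫ u₀ = w := (yon S).map_injective (by rw [Functor.map_comp, hw', sqU.lift_fst])
  have hw2 : w' ≫ kU = kU'' ≫ α := (yon S).map_injective (by
    rw [Functor.map_comp, hw', sqU.lift_snd, Functor.map_comp])
  have sqS : IsPullback w'.left kU''.left kU.left α.left := by
    refine isPullback_yon_iff.1 (IsPullback.of_right (h₁₂ := (yon S).map u₀) (v₁₃ := a₀ ≫ f) (h₂₂ := c) ?_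
      (by rw [← Functor.map_comp, hw2, Functor.map_comp]) sqU)
    rw [← Functor.map_comp, hw1, ← hp]
    exact sqU''
  let l := hsq.lift ((yon S).map w ≫ a₀) ((yon S).map kU'' ≫ p) (by
    rw [Category.assoc, sqU''.w, Category.assoc])
  have hle : RepWith @Etale l := FibreFlat.chart_baseChange @Etale hsq sqU'' ha₀e hpe
  have hls : RepWith @Surjective l := FibreFlat.chart_baseChange @Surjective hsq sqU'' ha₀s hps
  obtain ⟨u'', rfl⟩ := ofPt_surjective hls x'
  have haU : RepWith @Etale ((yon S).map u₀ ≫ a₀) := repWith_comp (repWith_baseChange sqU.flip hce) ha₀e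
  have commU : ((yon S).map u₀ ≫ a₀) ≫ f = (yon S).map kU ≫ c := by rw [Category.assoc]; exact sqU.w
  have commU'' : l ≫ f' = (yon S).map kU'' ≫ p := hsq.lift_snd _ _ _
  have hpt : Points.map g' (Points.ofPt l u'') = Points.ofPt ((yon S).map u₀ ≫ a₀) (w'.left u'') := by
    rw [Points.map_ofPt, hsq.lift_fst, ← hw1, Functor.map_comp, Category.assoc, ofPt_comp]
  have hpt' : Points.map f' (Points.ofPt l u'') = Points.ofPt p (kU''.left u'') := by
    rw [Points.map_ofPt, commU'', ofPt_comp]
  rw [hpt, locPAt_gorenstein_iff_chart hX hY haU hce commU,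
    locPAt_gorenstein_iff_chart hX' hY' hle hpe commU'']
  haveI : Flat kU.left := hfl _ c kU haU hce commU
  haveI : LocallyOfFinitePresentation kU.left := hft _ c kU haU hce commU
  exact isGorensteinAt_iff_baseChange sqS u''

end Groth.Agent.GorMor
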