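import Groth.Agent.GorMor.Basic

/-!
# Gorenstein morphisms: base change
-/

set_option autoImplicit false
set_option linter.style.haveILetI false
universe u

open CategoryTheory AlgebraicGeometry Limits
open scoped TensorProduct

namespace Groth.Agent.GorMor

open CMFlat (resHom essFiniteType_residueFieldMap isLocallyNoetherian_bc nonempty_stalk_equiv_asFiber essFiniteType_resHom)

variable {X Y X' Y' : Scheme.{u}} {f : X ⟶ Y} {f' : X' ⟶ Y'} {g' : X' ⟶ X} {g : Y' ⟶ Y}

/-- The fields in play: either the extension of residue fields is essentially of finite type, or the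
fibre is locally of finite type. -/
theorem isGorenstein_fiber_iff (hc : IsPullback g' f' f g) (x' : X')
    [IsLocallyNoetherian (f.fiber (g (f' x')))]
    (h : (LocallyOfFiniteType g) ∨ LocallyOfFiniteType f) :
    LocCoh.IsGorensteinLocalRing ((f.fiber (f (g' x'))).presheaf.stalk (f.asFiber (g' x'))) ↔
      LocCoh.IsGorensteinLocalRing ((f'.fiber (f' x')).presheaf.stalk (f'.asFiber x')) := by
  let y' := f' x'
  let k := Y.residueField (g y')
  let k' := Y'.residueField y'
  letI : Algebra k k' := (g.residueFieldMap y').hom.toAlgebra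
  letI : (f.fiber (g y')).Over (Spec (CommRingCat.of k)) := ⟨f.fiberToSpecResidueField (g y')⟩
  let e := (ConsEngine.isPullback_fiberBC hc y').isoPullback
  let z : ↥(Curv2.bc k (f.fiber (g y')) k') := e.hom (f'.asFiber x')
  have hι : f.fiberι (g y') (Curv2.bcFst k (f.fiber (g y')) k' z) = g' x' := by
    show f.fiberι (g y') ((e.hom ≫ pullback.fst _ _) (f'.asFiber x')) = g' x'
    rw [IsPullback.isoPullback_hom_fst, ← Scheme.Hom.comp_apply, ConsEngine.fiberBC_fiberι,
      Scheme.Hom.comp_apply, Scheme.Hom.fiberι_asFiber]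
  obtain ⟨e1⟩ := nonempty_stalk_equiv_asFiber f (g' x') _ hι
  let e2 : (Curv2.bc k (f.fiber (g y')) k').presheaf.stalk z ≃+* (f'.fiber y').presheaf.stalk (f'.asFiber x') :=
    (asIso (e.hom.stalkMap (f'.asFiber x'))).commRingCatIsoToRingEquiv
  have main : LocCoh.IsGorensteinLocalRing ((f.fiber (g y')).presheaf.stalk
        (Curv2.bcFst k (f.fiber (g y')) k' z)) ↔
      LocCoh.IsGorensteinLocalRing ((Curv2.bc k (f.fiber (g y')) k').presheaf.stalk z) := by
    rcases h with h | h
    · haveI : Algebra.EssFiniteType k k' := RingHom.essFiniteType_algebraMap.mp (by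
        rw [RingHom.algebraMap_toAlgebra]; exact essFiniteType_residueFieldMap g y')
      haveI := isLocallyNoetherian_bc k (f.fiber (g y')) k'
      refine isGorenstein_bc_iff k (f.fiber (g y')) k' z ?_
      letI := (resHom k (f.fiber (g y')) (Curv2.bcFst k (f.fiber (g y')) k' z)).hom.toAlgebra
      haveI : IsNoetherianRing ((f.fiber (g y')).residueField (Curv2.bcFst k (f.fiber (g y')) k' z) ⊗[k] k') :=
        (CMFlat.isCohenMacaulay_tensor_field k k' _).1
      exact (Goren.isGorensteinRing_fieldExt k _ k' (Goren.isGorensteinRing_of_regular _ inferInstance)).isGorensteinLocalRing_localization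
    · haveI : LocallyOfFiniteType (f.fiberToSpecResidueField (g y')) :=
        MorphismProperty.of_isPullback (P := @LocallyOfFiniteType) (ConsEngine.isPullback_fiber f (g y')) h
      haveI : LocallyOfFiniteType (f.fiber (g y') ↘ Spec (CommRingCat.of k)) :=
        inferInstanceAs (LocallyOfFiniteType (f.fiberToSpecResidueField (g y')))
      haveI : LocallyOfFiniteType
          (pullback.snd (f.fiber (g y') ↘ Spec (CommRingCat.of k))
            (Spec.map (CommRingCat.ofHom (algebraMap k k')))) :=
        MorphismProperty.pullback_snd (P := @LocallyOfFiniteType) _ _ inferInstance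
      haveI : IsLocallyNoetherian (Curv2.bc k (f.fiber (g y')) k') :=
        LocallyOfFiniteType.isLocallyNoetherian
          (pullback.snd (f.fiber (g y') ↘ Spec (CommRingCat.of k))
            (Spec.map (CommRingCat.ofHom (algebraMap k k'))))
      refine isGorenstein_bc_iff k (f.fiber (g y')) k' z ?_
      letI := (resHom k (f.fiber (g y')) (Curv2.bcFst k (f.fiber (g y')) k' z)).hom.toAlgebra
      haveI : Algebra.EssFiniteType k ((f.fiber (g y')).residueField (Curv2.bcFst k (f.fiber (g y')) k' z)) :=
        RingHom.essFiniteType_algebraMap.mp (by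
          rw [RingHom.algebraMap_toAlgebra]; exact essFiniteType_resHom k (f.fiber (g y')) _)
      haveI := (CMFlat.isCohenMacaulay_tensor_field k ((f.fiber (g y')).residueField
        (Curv2.bcFst k (f.fiber (g y')) k' z)) k').1
      haveI : IsNoetherianRing ((f.fiber (g y')).residueField (Curv2.bcFst k (f.fiber (g y')) k' z) ⊗[k] k') :=
        isNoetherianRing_of_ringEquiv _ (Algebra.TensorProduct.comm k k' _).toRingEquiv
      exact (Goren.isGorensteinRing_fieldExt k _ k' (Goren.isGorensteinRing_of_regular _ inferInstance)).isGorensteinLocalRing_localization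
  exact ⟨fun H => by
      haveI := main.mp (gor_equiv e1.symm H)
      exact gor_equiv e2 this,
    fun H => gor_equiv e1
      (main.mpr (gor_equiv e2.symm H))⟩

theorem isGorensteinAt_baseChange (hc : IsPullback g' f' f g) (x' : X')
    [IsLocallyNoetherian (f.fiber (g (f' x')))] (h : LocallyOfFiniteType g ∨ LocallyOfFiniteType f)
    (hx : Dual3.IsGorensteinAt f (g' x')) : Dual3.IsGorensteinAt f' x' :=
  ⟨CMFlat.flatAt_baseChange hc hx.1, (isGorenstein_fiber_iff hc x' h).mp hx.2⟩

theorem isGorensteinAt_of_baseChange (hc : IsPullback g' f' f g) (x' : X')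
    [IsLocallyNoetherian (f.fiber (g (f' x')))] (h : LocallyOfFiniteType g ∨ LocallyOfFiniteType f)
    (hfl : (f.stalkMap (g' x')).hom.Flat) (hx : Dual3.IsGorensteinAt f' x') : Dual3.IsGorensteinAt f (g' x') :=
  ⟨hfl, (isGorenstein_fiber_iff hc x' h).mpr hx.2⟩

end Groth.Agent.GorMor
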