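import Groth.Agent.Goren.Ring
import Groth.Agent.CMFlat.BaseChange
import Groth.Agent.CMFlat.Comp
import Groth.Prelude.Def_Dual3

/-!
# Gorenstein morphisms: composition
-/

set_option autoImplicit false
set_option linter.style.haveILetI false
universe u

open CategoryTheory AlgebraicGeometry IsLocalRing Limits
open scoped TensorProduct

namespace Groth.Agent.GorMor

open CMFlat (map_maximalIdeal_le nonempty_fiberStalk_equiv)

theorem gor_equiv {A B : Type u} [CommRing A] [CommRing B] (e : A ≃+* B)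
    (h : LocCoh.IsGorensteinLocalRing A) : LocCoh.IsGorensteinLocalRing B :=
  (Goren.gorenstein_equiv_iff e).1 h

/-- Local rings of fibres along `A → B → C` with `B → C` flat. -/
theorem fibre_comp {A B C : Type u} [CommRing A] [CommRing B] [CommRing C] [IsLocalRing A] [IsLocalRing B]
    [IsLocalRing C] [Algebra A B] [Algebra B C] [Algebra A C] [IsScalarTower A B C]
    [IsLocalHom (algebraMap A B)] [IsLocalHom (algebraMap B C)] [Module.Flat B C]
    [IsNoetherianRing (C ⧸ (maximalIdeal A).map (algebraMap A C))] :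
    IsNoetherianRing (B ⧸ (maximalIdeal A).map (algebraMap A B)) ∧
    (LocCoh.IsGorensteinLocalRing (C ⧸ (maximalIdeal A).map (algebraMap A C)) ↔
      LocCoh.IsGorensteinLocalRing (B ⧸ (maximalIdeal A).map (algebraMap A B)) ∧
        LocCoh.IsGorensteinLocalRing (C ⧸ (maximalIdeal B).map (algebraMap B C))) := by
  let I := (maximalIdeal A).map (algebraMap A B)
  let J := (maximalIdeal A).map (algebraMap A C)
  have hIJ : J = I.map (algebraMap B C) := by
    show J = ((maximalIdeal A).map (algebraMap A B)).map (algebraMap B C)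
    rw [Ideal.map_map, ← IsScalarTower.algebraMap_eq]
  letI : Algebra (B ⧸ I) (C ⧸ J) :=
    (Ideal.quotientMap J (algebraMap B C) (Ideal.map_le_iff_le_comap.1 hIJ.ge)).toAlgebra
  haveI : IsScalarTower B (B ⧸ I) (C ⧸ J) := IsScalarTower.of_algebraMap_eq fun _ => rfl
  have hI : I ≤ maximalIdeal B := map_maximalIdeal_le
  haveI : Nontrivial (B ⧸ I) :=
    Ideal.Quotient.nontrivial_iff.mpr fun h => (maximalIdeal.isMaximal B).ne_top (top_le_iff.mp (h.ge.trans hI))
  haveI : IsLocalRing (B ⧸ I) := IsLocalRing.of_surjective' _ Ideal.Quotient.mk_surjective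
  have hJ : J ≤ maximalIdeal C := hIJ.le.trans ((Ideal.map_mono hI).trans map_maximalIdeal_le)
  haveI : Nontrivial (C ⧸ J) :=
    Ideal.Quotient.nontrivial_iff.mpr fun h => (maximalIdeal.isMaximal C).ne_top (top_le_iff.mp (h.ge.trans hJ))
  haveI : IsLocalRing (C ⧸ J) := IsLocalRing.of_surjective' _ Ideal.Quotient.mk_surjective
  have hmB : maximalIdeal (B ⧸ I) = (maximalIdeal B).map (Ideal.Quotient.mk I) :=
    (IsLocalRing.eq_maximalIdeal ((Ideal.map_eq_top_or_isMaximal_of_surjective _ Ideal.Quotient.mk_surjective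
      (maximalIdeal.isMaximal B)).resolve_left fun h => by
        have := congrArg (Ideal.comap (Ideal.Quotient.mk I)) h
        rw [Ideal.comap_map_mk hI, Ideal.comap_top] at this
        exact (maximalIdeal.isMaximal B).ne_top this)).symm
  have hker : (maximalIdeal (B ⧸ I)).map (algebraMap (B ⧸ I) (C ⧸ J)) =
      ((maximalIdeal B).map (algebraMap B C)).map (Ideal.Quotient.mk J) := by
    rw [hmB, Ideal.map_map, Ideal.map_map]
    rfl
  haveI : IsLocalHom (algebraMap (B ⧸ I) (C ⧸ J)) := by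
    refine ((IsLocalRing.local_hom_TFAE _).out 0 2).mpr ?_
    rw [hker]
    refine (Ideal.map_mono map_maximalIdeal_le).trans ?_
    refine IsLocalRing.le_maximalIdeal fun h => ?_
    have := congrArg (Ideal.comap (Ideal.Quotient.mk J)) h
    rw [Ideal.comap_map_mk hJ, Ideal.comap_top] at this
    exact (maximalIdeal.isMaximal C).ne_top this
  haveI : Module.Flat (B ⧸ I) (C ⧸ J) := by
    haveI := FibCrit.isPushout_quot (A := B) (B := C) I (J := J) hIJ
    exact Module.Flat.of_linearEquiv (Algebra.IsPushout.equiv B (B ⧸ I) C (C ⧸ J)).symm.toLinearEquiv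
  haveI : Module.FaithfullyFlat (B ⧸ I) (C ⧸ J) := Module.FaithfullyFlat.of_flat_of_isLocalHom
  haveI : IsNoetherianRing (B ⧸ I) := Hensel.isNoetherianRing_of_faithfullyFlat (S := C ⧸ J)
  refine ⟨inferInstance, ?_⟩
  let e : ((C ⧸ J) ⧸ (maximalIdeal (B ⧸ I)).map (algebraMap (B ⧸ I) (C ⧸ J))) ≃+*
      C ⧸ (maximalIdeal B).map (algebraMap B C) :=
    (Ideal.quotEquivOfEq hker).trans (DoubleQuot.quotQuotEquivQuotOfLE (hIJ.le.trans (Ideal.map_mono hI)))
  exact (Goren.gorenstein_flat_iff (R := B ⧸ I) (S := C ⧸ J)).trans (and_congr_right fun _ =>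
    ⟨gor_equiv e, gor_equiv e.symm⟩)

variable {X Y Z : Scheme.{u}}

/-- Fibres of a composition: Gorenstein property and dimension. -/
theorem fiber_stalk_comp (f : X ⟶ Y) (g : Y ⟶ Z) (x : X) (hfl : (f.stalkMap x).hom.Flat)
    [IsNoetherianRing (((f ≫ g).fiber ((f ≫ g) x)).presheaf.stalk ((f ≫ g).asFiber x))] :
    LocCoh.IsGorensteinLocalRing (((f ≫ g).fiber ((f ≫ g) x)).presheaf.stalk ((f ≫ g).asFiber x)) ↔
      LocCoh.IsGorensteinLocalRing ((g.fiber (g (f x))).presheaf.stalk (g.asFiber (f x))) ∧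
        LocCoh.IsGorensteinLocalRing ((f.fiber (f x)).presheaf.stalk (f.asFiber x)) := by
  letI := (f.stalkMap x).hom.toAlgebra
  letI : Algebra (Z.presheaf.stalk (g (f x))) (Y.presheaf.stalk (f x)) := (g.stalkMap (f x)).hom.toAlgebra
  letI : Algebra (Z.presheaf.stalk (g (f x))) (X.presheaf.stalk x) :=
    ((f.stalkMap x).hom.comp (g.stalkMap (f x)).hom).toAlgebra
  haveI : IsScalarTower (Z.presheaf.stalk (g (f x))) (Y.presheaf.stalk (f x)) (X.presheaf.stalk x) :=
    IsScalarTower.of_algebraMap_eq fun _ => rfl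
  haveI : Module.Flat (Y.presheaf.stalk (f x)) (X.presheaf.stalk x) := hfl
  haveI : IsLocalHom (algebraMap (Y.presheaf.stalk (f x)) (X.presheaf.stalk x)) :=
    inferInstanceAs (IsLocalHom (f.stalkMap x).hom)
  haveI : IsLocalHom (algebraMap (Z.presheaf.stalk (g (f x))) (Y.presheaf.stalk (f x))) :=
    inferInstanceAs (IsLocalHom (g.stalkMap (f x)).hom)
  obtain ⟨e0⟩ := nonempty_fiberStalk_equiv (f ≫ g) x
  let e : (X.presheaf.stalk x ⧸ (maximalIdeal (Z.presheaf.stalk (g (f x)))).map
      (algebraMap (Z.presheaf.stalk (g (f x))) (X.presheaf.stalk x))) ≃+*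
      (((f ≫ g).fiber ((f ≫ g) x)).presheaf.stalk ((f ≫ g).asFiber x)) :=
    (Ideal.quotEquivOfEq (by
      have h : ((f ≫ g).stalkMap x).hom = (f.stalkMap x).hom.comp (g.stalkMap (f x)).hom :=
        congrArg CommRingCat.Hom.hom (Scheme.Hom.stalkMap_comp f g x)
      rw [h]; rfl)).trans e0
  obtain ⟨e1⟩ := nonempty_fiberStalk_equiv g (f x)
  obtain ⟨e2⟩ := nonempty_fiberStalk_equiv f x
  haveI := isNoetherianRing_of_ringEquiv _ e.symm
  obtain ⟨-, h1⟩ := fibre_comp (A := Z.presheaf.stalk (g (f x))) (B := Y.presheaf.stalk (f x))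
    (C := X.presheaf.stalk x)
  refine ⟨fun h => ?_, fun h => ?_⟩
  · obtain ⟨ha, hb⟩ := h1.mp (gor_equiv e.symm h)
    exact ⟨gor_equiv e1 ha, gor_equiv e2 hb⟩
  · exact gor_equiv e (h1.mpr
      ⟨gor_equiv e1.symm h.1,
        gor_equiv e2.symm h.2⟩)

/-- Composites of Gorenstein morphisms. -/
theorem isGorensteinAt_comp {f : X ⟶ Y} {g : Y ⟶ Z} {x : X}
    (hN : IsLocallyNoetherian ((f ≫ g).fiber (g (f x))))
    (hf : Dual3.IsGorensteinAt f x) (hg : Dual3.IsGorensteinAt g (f x)) : Dual3.IsGorensteinAt (f ≫ g) x := by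
  haveI := CMFlat.isNoetherianRing_fiber_stalk_comp f g x hN
  exact ⟨FibreFlat.flatAt_comp hf.1 hg.1, (fiber_stalk_comp f g x hf.1).mpr ⟨hg.2, hf.2⟩⟩

/-- Gorenstein property of a composite passes to the factors along flat maps. -/
theorem isGorensteinAt_of_comp {f : X ⟶ Y} {g : Y ⟶ Z} {x : X} (h : Dual3.IsGorensteinAt (f ≫ g) x)
    (hfl : (f.stalkMap x).hom.Flat) : Dual3.IsGorensteinAt f x ∧ Dual3.IsGorensteinAt g (f x) := by
  haveI := h.2
  haveI := h.2.toIsNoetherian
  obtain ⟨hg, hf⟩ := (fiber_stalk_comp f g x hfl).mp h.2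
  exact ⟨⟨hfl, hf⟩, ⟨FibreFlat.flatAt_of_comp hfl h.1, hg⟩⟩

theorem isGorenstein_stalk_iff (f : X ⟶ Y) [IsLocallyNoetherian X] [IsLocallyNoetherian Y] (x : X)
    (hflat : (f.stalkMap x).hom.Flat) :
    LocCoh.IsGorensteinLocalRing (X.presheaf.stalk x) ↔
      LocCoh.IsGorensteinLocalRing (Y.presheaf.stalk (f x)) ∧
        LocCoh.IsGorensteinLocalRing ((f.fiber (f x)).presheaf.stalk (f.asFiber x)) := by
  letI := (f.stalkMap x).hom.toAlgebra
  haveI : Module.Flat (Y.presheaf.stalk (f x)) (X.presheaf.stalk x) := hflat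
  haveI : IsLocalHom (algebraMap (Y.presheaf.stalk (f x)) (X.presheaf.stalk x)) :=
    inferInstanceAs (IsLocalHom (f.stalkMap x).hom)
  obtain ⟨e⟩ := nonempty_fiberStalk_equiv f x
  exact (Goren.gorenstein_flat_iff (R := Y.presheaf.stalk (f x)) (S := X.presheaf.stalk x)).trans (and_congr_right fun _ =>
    ⟨gor_equiv e, gor_equiv e.symm⟩)


section BaseField

open CMFlat (resHom)

variable (k : Type u) [Field k] (X : Scheme.{u}) [X.Over (Spec (CommRingCat.of k))]
  (k' : Type u) [Field k'] [Algebra k k']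

/-- The fibres of a base field extension have Gorenstein local rings. -/
theorem isGorenstein_fiber_bcFst (x' : ↥(Curv2.bc k X k'))
    (h : letI := (resHom k X (Curv2.bcFst k X k' x')).hom.toAlgebra
      ∀ (q : Ideal ((X.residueField (Curv2.bcFst k X k' x')) ⊗[k] k')) [q.IsPrime],
        LocCoh.IsGorensteinLocalRing (Localization.AtPrime q)) :
    LocCoh.IsGorensteinLocalRing
      (((Curv2.bcFst k X k').fiber (Curv2.bcFst k X k' x')).presheaf.stalk ((Curv2.bcFst k X k').asFiber x')) := by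
  let x := Curv2.bcFst k X k' x'
  let p := X ↘ Spec (CommRingCat.of k)
  let g := Spec.map (CommRingCat.ofHom (algebraMap k k'))
  letI := (resHom k X x).hom.toAlgebra
  have h1 : IsPullback ((Curv2.bcFst k X k').fiberToSpecResidueField x)
      ((Curv2.bcFst k X k').fiberι x ≫ pullback.snd p g) (X.fromSpecResidueField x ≫ p) g :=
    (IsPullback.of_hasPullback (Curv2.bcFst k X k') (X.fromSpecResidueField x)).flip.paste_vert
      (IsPullback.of_hasPullback p g)
  have h2 : X.fromSpecResidueField x ≫ p =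
      Spec.map (CommRingCat.ofHom (algebraMap k (X.residueField x))) := (Spec.map_preimage _).symm
  rw [h2] at h1
  let e : (Curv2.bcFst k X k').fiber x ≅ Spec (CommRingCat.of ((X.residueField x) ⊗[k] k')) :=
    h1.isoPullback ≪≫ pullbackSpecIso k (X.residueField x) k'
  let z := (Curv2.bcFst k X k').asFiber x'
  exact gor_equiv
    (((StructureSheaf.stalkIso _ (e.hom z)).toRingEquiv).trans
      (asIso (e.hom.stalkMap z)).commRingCatIsoToRingEquiv) (h (e.hom z).asIdeal)

/-- Gorenstein property of local rings is insensitive to the base field. -/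
theorem isGorenstein_bc_iff [IsLocallyNoetherian X] [IsLocallyNoetherian (Curv2.bc k X k')]
    (x' : ↥(Curv2.bc k X k'))
    (h : letI := (resHom k X (Curv2.bcFst k X k' x')).hom.toAlgebra
      ∀ (q : Ideal ((X.residueField (Curv2.bcFst k X k' x')) ⊗[k] k')) [q.IsPrime],
        LocCoh.IsGorensteinLocalRing (Localization.AtPrime q)) :
    LocCoh.IsGorensteinLocalRing (X.presheaf.stalk (Curv2.bcFst k X k' x')) ↔
      LocCoh.IsGorensteinLocalRing ((Curv2.bc k X k').presheaf.stalk x') := by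
  haveI : Flat (Spec.map (CommRingCat.ofHom (algebraMap k k'))) :=
    Flat.SpecMap_iff.2 (RingHom.flat_algebraMap_iff.mpr inferInstance)
  haveI : Flat (Curv2.bcFst k X k') := MorphismProperty.pullback_fst (P := @Flat) _ _ inferInstance
  rw [isGorenstein_stalk_iff (Curv2.bcFst k X k') x' (Flat.stalkMap _ x')]
  exact (and_iff_left (isGorenstein_fiber_bcFst k X k' x' h)).symm


end BaseField

end Groth.Agent.GorMor
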