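import Groth.Agent.GorMor.Locus

/-!
# Gorenstein at a point through quasi-finite maps to affine space
-/

set_option autoImplicit false
set_option linter.style.haveILetI false
universe u

open CategoryTheory AlgebraicGeometry Limits IsLocalRing
open Groth.Agent Groth.Agent.Unibranch Groth.Agent.EquidimPt

namespace Groth.Agent.GorMor

open CMChart

variable {X Y : Scheme.{u}}

theorem localFibreDim_eq (f : X ⟶ Y) (x : X) : Dual3.localFibreDim f x = FlatMor.fibreDimAt f x := by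
  refine le_antisymm (le_iInf fun U => iInf₂_le U.1 U.2) (le_iInf₂ fun U hU => iInf_le (fun V : {V : TopologicalSpace.Opens ↥(f.fiber (f x)) // f.asFiber x ∈ V} =>
    topologicalKrullDim (V.1 : Set ↥(f.fiber (f x)))) ⟨U, hU⟩)

/-- A quasi-finite map to affine space of the fibre dimension is flat at a Cohen–Macaulay point. -/
theorem flatAt_of_isCMAt (f : X ⟶ Y) [LocallyOfFinitePresentation f] {D : ℕ} {U : X.Opens} {x : X} (hxU : x ∈ U)
    (g : (U : Scheme.{u}) ⟶ AffineSpace (ULift.{u} (Fin D)) Y) [LocallyQuasiFinite g]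
    (hg : g ≫ (AffineSpace (ULift.{u} (Fin D)) Y ↘ Y) = U.ι ≫ f) (hCM : MoreMor.IsCMAt f x)
    (hD : FlatMor.fibreDimAt f x = (D : WithBot ℕ∞)) : (g.stalkMap ⟨x, hxU⟩).hom.Flat := by
  let π := AffineSpace (ULift.{u} (Fin D)) Y ↘ Y
  let u : (U : Scheme.{u}) := ⟨x, hxU⟩
  haveI : LocallyOfFinitePresentation (g ≫ π) := by rw [hg]; infer_instance
  refine ((FibCrit.pointwise g π u).mp ⟨?_, ?_⟩).2
  · have key : ∀ (h' : (U : Scheme.{u}) ⟶ Y), h' = U.ι ≫ f → (h'.stalkMap u).hom.Flat := by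
      rintro h' rfl
      erw [Scheme.Hom.stalkMap_comp, CommRingCat.hom_comp]
      exact RingHom.Flat.comp hCM.1 (Flat.stalkMap U.ι u)
    exact key _ hg
  · rw [fibFlat_iff]
    let s := (g ≫ π) u
    let k := MoreMor.fiberMap g π s
    let z := (g ≫ π).asFiber u
    letI := (k.stalkMap z).hom.toAlgebra
    haveI := isRegularLocalRing_fiber_stalk (ULift.{u} (Fin D)) s (k z)
    haveI := (isCM_fiber_iff f U (g ≫ π) hg u).mpr hCM.2
    haveI : IsLocalHom (algebraMap ((π.fiber s).presheaf.stalk (k z))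
      (((g ≫ π).fiber s).presheaf.stalk z)) := inferInstanceAs (IsLocalHom (k.stalkMap z).hom)
    refine flat_of_cohenMacaulay (R := (π.fiber s).presheaf.stalk (k z)) (fibre_facts D g u) ?_
    exact ringKrullDim_fibre_stalk_le f hxU g hg hD

theorem isGorensteinAt_tfae (f : X ⟶ Y) [Flat f] [LocallyOfFinitePresentation f] (x : X) (d : ℕ)
    (hd : Dual3.localFibreDim f x = (d : WithBot ℕ∞)) :
    (Dual3.IsGorensteinAt f x ↔ ∃ (U : X.Opens) (hx : x ∈ U) (g : (U : Scheme.{u}) ⟶ AffineSpace (ULift.{u} (Fin d)) Y),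
      g ≫ (AffineSpace (ULift.{u} (Fin d)) Y ↘ Y) = U.ι ≫ f ∧ LocallyQuasiFinite g ∧
        Dual3.IsGorensteinAt g ⟨x, hx⟩) ∧
    (Dual3.IsGorensteinAt f x ↔ ∃ (U : X.Opens) (_ : x ∈ U) (g : (U : Scheme.{u}) ⟶ AffineSpace (ULift.{u} (Fin d)) Y),
      g ≫ (AffineSpace (ULift.{u} (Fin d)) Y ↘ Y) = U.ι ≫ f ∧ LocallyQuasiFinite g ∧ Dual3.IsGorensteinMor g) ∧
    (Dual3.IsGorensteinAt f x ↔ ∀ (U : X.Opens) (hx : x ∈ U) (g : (U : Scheme.{u}) ⟶ AffineSpace (ULift.{u} (Fin d)) Y),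
      g ≫ (AffineSpace (ULift.{u} (Fin d)) Y ↘ Y) = U.ι ≫ f → Dual3.QuasiFiniteAt g ⟨x, hx⟩ →
        Dual3.IsGorensteinAt g ⟨x, hx⟩) := by
  rw [localFibreDim_eq] at hd
  -- a chart with a Gorenstein morphism
  have h13 : Dual3.IsGorensteinAt f x → ∃ (U : X.Opens) (_ : x ∈ U)
      (g : (U : Scheme.{u}) ⟶ AffineSpace (ULift.{u} (Fin d)) Y),
      g ≫ (AffineSpace (ULift.{u} (Fin d)) Y ↘ Y) = U.ι ≫ f ∧ LocallyQuasiFinite g ∧ Dual3.IsGorensteinMor g := by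
    intro hx
    obtain ⟨e, U, g, hxU, hg, hqf, hfl, hU⟩ := exists_cm_nhd f (isCMAt_of_isGorensteinAt hx)
    obtain rfl : e = d := by
      have := (hU x hxU).2.symm.trans hd
      exact_mod_cast this
    haveI : LocallyOfFinitePresentation (g ≫ (AffineSpace (ULift.{u} (Fin e)) Y ↘ Y)) := by rw [hg]; infer_instance
    haveI : LocallyOfFinitePresentation g := LimDesc.lfp_of_comp g (AffineSpace (ULift.{u} (Fin e)) Y ↘ Y)
    let L : (U : Scheme.{u}).Opens := ⟨{u | Dual3.IsGorensteinAt g u}, isOpen_of_lqf g⟩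
    have hWU : U.ι ''ᵁ L ≤ U := by rintro _ ⟨a, -, rfl⟩; exact a.2
    have hxW : x ∈ U.ι ''ᵁ L :=
      ⟨⟨x, hxU⟩, (isGorensteinAt_iff_chart f hxU g hg (Flat.stalkMap g _)).1 hx, rfl⟩
    refine ⟨U.ι ''ᵁ L, hxW, X.homOfLE hWU ≫ g, ?_, inferInstance, fun w => ?_⟩
    · rw [Category.assoc, hg, Scheme.homOfLE_ι_assoc]
    · refine (isGorensteinAt_precomp_iff (X.homOfLE hWU) g w).2 ?_
      obtain ⟨a, ha, hw⟩ := w.2
      have : X.homOfLE hWU w = a := U.ι.injective (by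
        rw [← Scheme.Hom.comp_apply, Scheme.homOfLE_ι]; exact hw.symm)
      rw [this]; exact ha
  have h21 : (∃ (U : X.Opens) (hx : x ∈ U) (g : (U : Scheme.{u}) ⟶ AffineSpace (ULift.{u} (Fin d)) Y),
      g ≫ (AffineSpace (ULift.{u} (Fin d)) Y ↘ Y) = U.ι ≫ f ∧ LocallyQuasiFinite g ∧
        Dual3.IsGorensteinAt g ⟨x, hx⟩) → Dual3.IsGorensteinAt f x :=
    fun ⟨U, hx, g, hg, _, hG⟩ => (isGorensteinAt_iff_chart f hx g hg hG.1).2 hG
  refine ⟨⟨fun h => ?_, h21⟩, ⟨h13, fun ⟨U, hx, g, hg, hqf, hG⟩ => h21 ⟨U, hx, g, hg, hqf, hG _⟩⟩,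
    ⟨fun h U hx g hg hqf => ?_, fun h => ?_⟩⟩
  · obtain ⟨U, hx, g, hg, hqf, hG⟩ := h13 h
    exact ⟨U, hx, g, hg, hqf, hG _⟩
  · haveI : LocallyOfFiniteType (g ≫ (AffineSpace (ULift.{u} (Fin d)) Y ↘ Y)) := by rw [hg]; infer_instance
    haveI : LocallyOfFiniteType g := locallyOfFiniteType_of_comp g (AffineSpace (ULift.{u} (Fin d)) Y ↘ Y)
    have hqf' : g.QuasiFiniteAt ⟨x, hx⟩ := Scheme.Hom.quasiFiniteAt_iff_isOpen_singleton_asFiber.2 hqf
    have hWU : U.ι ''ᵁ g.quasiFiniteLocus ≤ U := by rintro _ ⟨a, -, rfl⟩; exact a.2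
    have hxW : x ∈ U.ι ''ᵁ g.quasiFiniteLocus := ⟨⟨x, hx⟩, hqf', rfl⟩
    let j := X.homOfLE hWU
    haveI : LocallyQuasiFinite (j ≫ g) := by
      rw [← Scheme.Hom.quasiFiniteLocus_eq_top_iff, Scheme.Hom.quasiFiniteLocus_comp, eq_top_iff]
      intro w _
      obtain ⟨a, ha, hw⟩ := w.2
      have : j w = a := U.ι.injective (by
        rw [← Scheme.Hom.comp_apply, Scheme.homOfLE_ι]; exact hw.symm)
      show j w ∈ g.quasiFiniteLocus
      rw [this]; exact ha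
    have hg' : (j ≫ g) ≫ (AffineSpace (ULift.{u} (Fin d)) Y ↘ Y) = (U.ι ''ᵁ g.quasiFiniteLocus).ι ≫ f := by
      rw [Category.assoc, hg, Scheme.homOfLE_ι_assoc]
    have hG := (isGorensteinAt_iff_chart f hxW (j ≫ g) hg'
      (flatAt_of_isCMAt f hxW (j ≫ g) hg' (isCMAt_of_isGorensteinAt h) hd)).1 h
    have := (isGorensteinAt_precomp_iff j g ⟨x, hxW⟩).1 hG
    rwa [show j ⟨x, hxW⟩ = ⟨x, hx⟩ from U.ι.injective (by
      rw [← Scheme.Hom.comp_apply, Scheme.homOfLE_ι]; rfl)] at this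
  · obtain ⟨U₀, hxU₀, hU₀⟩ := (fibreDimAt_le_iff f x).mp hd.le
    obtain ⟨U, g, hxU, -, hg, _, _⟩ := exists_quasiFinite_of_chainsLE f hxU₀ hU₀
    exact h21 ⟨U, hxU, g, hg, inferInstance,
      h U hxU g hg (Scheme.Hom.quasiFiniteAt_iff_isOpen_singleton_asFiber.1 (g.quasiFiniteAt _))⟩

end Groth.Agent.GorMor
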