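import Groth.Agent.GorMor.AlgSp
import Groth.Agent.Hensel.BranchSum
import Groth.Agent.IndEtLib.Basic
import Groth.Agent.CAlgMisc.PdBaseChange
import Groth.Agent.S12237

/-!
# Gorenstein at a point through strict henselizations
-/

set_option autoImplicit false
set_option linter.style.haveILetI false
set_option maxSynthPendingDepth 3
universe u

open IsLocalRing
open scoped TensorProduct

namespace Groth.Agent.GorMor

variable {A B A' B' : Type u} [CommRing A] [CommRing B] [CommRing A'] [CommRing B'] [IsLocalRing A] [IsLocalRing B]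
  [IsLocalRing A'] [IsLocalRing B'] [Algebra A B] [Algebra A A'] [Algebra B B'] [Algebra A' B'] [Algebra A B']
  [IsScalarTower A B B'] [IsScalarTower A A' B']
  [IsLocalHom (algebraMap A B)] [IsLocalHom (algebraMap A A')] [IsLocalHom (algebraMap B B')]
  [Hensel.IsStrictHenselization A A'] [Hensel.IsStrictHenselization B B']

theorem flat_strict_iff : Module.Flat A B ↔ Module.Flat A' B' := by
  haveI := Hensel.strictHenselization_flat A A'
  haveI := Hensel.strictHenselization_flat B B'
  constructor
  · intro h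
    haveI : Module.Flat A B' := Module.Flat.trans A B B'
    exact CAlgMisc.flat_of_flat_mul A A' (IndEtLib.flat_lmul (Groth.Agent.S12237.result A A')) B'
  · intro h
    haveI : Module.Flat A B' := Module.Flat.trans A A' B'
    haveI : Module.FaithfullyFlat B B' := Module.FaithfullyFlat.of_flat_of_isLocalHom
    exact GrpdLib.moduleFlat_of_comp A B B'

theorem gorenstein_fibre_strict_iff [IsNoetherianRing (B ⧸ (maximalIdeal A).map (algebraMap A B))] :
    LocCoh.IsGorensteinLocalRing (B ⧸ (maximalIdeal A).map (algebraMap A B)) ↔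
      LocCoh.IsGorensteinLocalRing (B' ⧸ (maximalIdeal A').map (algebraMap A' B')) := by
  let I := (maximalIdeal A).map (algebraMap A B)
  have hI : I ≤ maximalIdeal B := CMFlat.map_maximalIdeal_le
  haveI : Nontrivial (B ⧸ I) :=
    Ideal.Quotient.nontrivial_iff.mpr fun h => (maximalIdeal.isMaximal B).ne_top (top_le_iff.mp (h.ge.trans hI))
  haveI : IsLocalRing (B ⧸ I) := IsLocalRing.of_surjective' _ Ideal.Quotient.mk_surjective
  let J := I.map (algebraMap B B')
  have hJ : J ≤ maximalIdeal B' := (Ideal.map_mono hI).trans CMFlat.map_maximalIdeal_le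
  haveI : Nontrivial (B' ⧸ J) :=
    Ideal.Quotient.nontrivial_iff.mpr fun h => (maximalIdeal.isMaximal B').ne_top (top_le_iff.mp (h.ge.trans hJ))
  haveI : IsLocalRing (B' ⧸ J) := IsLocalRing.of_surjective' _ Ideal.Quotient.mk_surjective
  haveI : IsLocalHom (Ideal.Quotient.mk I) := IsLocalHom.of_surjective _ Ideal.Quotient.mk_surjective
  haveI : IsLocalHom (algebraMap (B ⧸ I) (B' ⧸ J)) := by
    constructor
    intro x hx
    obtain ⟨b, rfl⟩ := Ideal.Quotient.mk_surjective x
    refine IsUnit.map _ ?_
    haveI : IsLocalHom (Ideal.Quotient.mk J) := IsLocalHom.of_surjective _ Ideal.Quotient.mk_surjective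
    exact IsUnit.of_map (algebraMap B B') b (IsUnit.of_map (Ideal.Quotient.mk J) _ hx)
  haveI := Hensel.isStrictHenselization_quotient (A := B) (S := B') I
  refine (gorenstein_iff_strictHenselization (A := B ⧸ I) (R := B' ⧸ J)).symm.trans
    (Goren.gorenstein_equiv_iff (Ideal.quotEquivOfEq ?_))
  show ((maximalIdeal A).map (algebraMap A B)).map (algebraMap B B') = (maximalIdeal A').map (algebraMap A' B')
  rw [← Hensel.strictHenselization_map_maximalIdeal A A', Ideal.map_map, Ideal.map_map,
    ← IsScalarTower.algebraMap_eq A B B', ← IsScalarTower.algebraMap_eq A A' B']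

end Groth.Agent.GorMor

open CategoryTheory CategoryTheory.Limits AlgebraicGeometry AlgSp

namespace Groth.Agent.GorMor

theorem locPAt_gorenstein_iff_strictHenselization {S : Scheme.{u}} {X Y : AlgSp.Sp S} (hX : IsAlgSpace X)
    (hY : IsAlgSpace Y) {f : X ⟶ Y}
    (hf : ∀ (k : FieldPt Y) (Xk : AlgSp.Sp S) (a : Xk ⟶ X) (b : Xk ⟶ (yon S).obj k.pt),
      IsPullback a b f k.toHom → IsLocNoethSp Xk)
    {U V : Over S} {a : (yon S).obj U ⟶ X} {b : (yon S).obj V ⟶ Y} {h : U ⟶ V} (ha : RepWith @Etale a)
    (hb : RepWith @Etale b) (hc : a ≫ f = (yon S).map h ≫ b) (u : ↥U.left)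
    (R : Type u) [CommRing R] [IsLocalRing R] [Algebra ↥(U.left.presheaf.stalk u) R]
    [IsLocalHom (algebraMap ↥(U.left.presheaf.stalk u) R)] [Hensel.IsStrictHenselization ↥(U.left.presheaf.stalk u) R]
    (R' : Type u) [CommRing R'] [IsLocalRing R'] [Algebra ↥(V.left.presheaf.stalk (h.left u)) R']
    [IsLocalHom (algebraMap ↥(V.left.presheaf.stalk (h.left u)) R')]
    [Hensel.IsStrictHenselization ↥(V.left.presheaf.stalk (h.left u)) R']
    (φ : R' →+* R)
    (hφ : φ.comp (algebraMap ↥(V.left.presheaf.stalk (h.left u)) R') =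
      (algebraMap ↥(U.left.presheaf.stalk u) R).comp (h.left.stalkMap u).hom) :
    LocPAt (fun h u => Dual3.IsGorensteinAt h u) f (Points.ofPt a u) ↔
      φ.Flat ∧ LocCoh.IsGorensteinLocalRing (R ⧸ (IsLocalRing.maximalIdeal R').map φ) := by
  rw [locPAt_gorenstein_iff_chart hX hY ha hb hc u]
  letI := (h.left.stalkMap u).hom.toAlgebra
  letI := φ.toAlgebra
  letI : Algebra ↥(V.left.presheaf.stalk (h.left u)) R :=
    ((algebraMap ↥(U.left.presheaf.stalk u) R).comp (h.left.stalkMap u).hom).toAlgebra
  haveI : IsScalarTower ↥(V.left.presheaf.stalk (h.left u)) ↥(U.left.presheaf.stalk u) R :=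
    IsScalarTower.of_algebraMap_eq fun _ => rfl
  haveI : IsScalarTower ↥(V.left.presheaf.stalk (h.left u)) R' R :=
    IsScalarTower.of_algebraMap_eq fun x => (RingHom.congr_fun hφ x).symm
  haveI : IsLocalHom (algebraMap ↥(V.left.presheaf.stalk (h.left u)) ↥(U.left.presheaf.stalk u)) :=
    inferInstanceAs (IsLocalHom (h.left.stalkMap u).hom)
  obtain ⟨e⟩ := CMFlat.nonempty_fiberStalk_equiv h.left u
  haveI : IsNoetherianRing (↥(U.left.presheaf.stalk u) ⧸
      (IsLocalRing.maximalIdeal ↥(V.left.presheaf.stalk (h.left u))).map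
        (algebraMap ↥(V.left.presheaf.stalk (h.left u)) ↥(U.left.presheaf.stalk u))) := by
    haveI := isLocallyNoetherian_fiber_chart hX hY hf ha hc (h.left u)
    exact isNoetherianRing_of_ringEquiv _ e.symm
  exact and_congr (flat_strict_iff (A' := R') (B' := R))
    ((Goren.gorenstein_equiv_iff e).symm.trans (gorenstein_fibre_strict_iff (A' := R') (B' := R)))

end Groth.Agent.GorMor
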